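import Cfsg.Agent.Lib.ClassLin.Basic
import Cfsg.Agent.Lib.ClassNumberPSq.Blocks

/-!
Scalars from the centre and the imprimitive decomposition.
-/

set_option autoImplicit false
set_option linter.unusedSectionVars false
set_option linter.style.haveILetI false

namespace CfsgLib.ClassLin

open CfsgLib.BaseTwo (Inv Irr scalars endo endo_mem_scalars conjEnd conjEnd_apply conjEnd_one conjEnd_mul
  conjEnd_mem_scalars scalars_comm commute_of_mem_scalars)
open CfsgLib.ClassPSq (exists_primitive three_mul_card_le)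
open Subgroup

universe u v

variable {A V : Type u} [Group A] [Finite A] [AddCommGroup V] [Finite V] [DistribMulAction A V]

/-- The field acts through the centre. -/
def KScal (k : Type v) (A V : Type u) [Field k] [Group A] [AddCommGroup V] [DistribMulAction A V] [Module k V] :
    Prop :=
  ∀ c : k, ∃ f ∈ scalars V (center A), ∀ v : V, f v = c • v

variable {k : Type v} [Field k] [Module k V]

/-- The prime field always does. -/
theorem KScal.prime {p : ℕ} [Fact p.Prime] [Module (ZMod p) V] : KScal (ZMod p) A V := fun c => by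
  obtain ⟨n, rfl⟩ := ZMod.natCast_zmod_surjective c
  refine ⟨(n : AddMonoid.End V), natCast_mem _ n, fun v => ?_⟩
  rw [AddMonoid.End.natCast_apply, Nat.cast_smul_eq_nsmul]

theorem KScal.comm (h : KScal k A V) (a : A) (c : k) (v : V) : a • c • v = c • a • v := by
  obtain ⟨f, hf, hfv⟩ := h c
  have hc := commute_of_mem_scalars (f := endo A V a) (fun z hz => by
    rw [← map_mul, ← map_mul, mem_center_iff.1 hz a]) hf
  rw [← hfv, ← hfv]
  exact DFunLike.congr_fun hc v

/-- Scalars from the centre descend to a restricted action. -/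
theorem KScal.descend {H W : Type u} [Group H] [Finite H] [AddCommGroup W] [Finite W] [DistribMulAction H W] (ι : W →+ V)
    (S : Subgroup A) (hS : center A ≤ S) (φ : S →* H) (hφ : Function.Surjective φ)
    (hact : ∀ (s : S) (w : W), ι (φ s • w) = (s : A) • ι w) (h : KScal k A V) (c : k) :
    ∃ g ∈ scalars W (center H), ∀ w : W, ι (g w) = c • ι w := by
  obtain ⟨f, hf, hfv⟩ := h c
  suffices ∃ g ∈ scalars W (center H), ∀ w : W, ι (g w) = f (ι w) by
    obtain ⟨g, hg, hgw⟩ := this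
    exact ⟨g, hg, fun w => by rw [hgw, hfv]⟩
  clear hfv
  revert hf
  refine fun hf => Subring.closure_induction (p := fun f _ => ∃ g ∈ scalars W (center H),
    ∀ w : W, ι (g w) = f (ι w)) ?_ ?_ ?_ ?_ ?_ ?_ hf
  · rintro _ ⟨z, hz, rfl⟩
    have hzH : φ ⟨z, hS hz⟩ ∈ center H := mem_center_iff.2 fun x => by
      obtain ⟨s, rfl⟩ := hφ x
      rw [← map_mul, ← map_mul]
      exact congrArg φ (Subtype.ext (mem_center_iff.1 hz (s : A)))
    exact ⟨endo H W (φ ⟨z, hS hz⟩), endo_mem_scalars hzH, fun w => hact _ w⟩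
  · exact ⟨0, zero_mem _, fun w => map_zero ι⟩
  · exact ⟨1, one_mem _, fun w => rfl⟩
  · rintro f g - - ⟨f', hf', hf''⟩ ⟨g', hg', hg''⟩
    refine ⟨f' + g', add_mem hf' hg', fun w => ?_⟩
    show ι (f' w + g' w) = f (ι w) + g (ι w)
    rw [map_add, hf'', hg'']
  · rintro f - ⟨f', hf', hf''⟩
    refine ⟨-f', neg_mem hf', fun w => ?_⟩
    show ι (-(f' w)) = -(f (ι w))
    rw [map_neg, hf'']
  · rintro f g - - ⟨f', hf', hf''⟩ ⟨g', hg', hg''⟩
    refine ⟨f' * g', mul_mem hf' hg', fun w => ?_⟩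
    show ι (f' (g' w)) = f (g (ι w))
    rw [hf'', hg'']

/-- An invariant subgroup is stable under the field. -/
theorem KScal.stable (h : KScal k A V) {W : AddSubgroup V} (hW : Inv (⊤ : Subgroup A) W) (c : k) {x : V}
    (hx : x ∈ W) : c • x ∈ W := by
  letI : DistribMulAction A W :=
    { smul := fun a w => ⟨a • (w : V), hW a trivial w w.2⟩
      one_smul := fun w => Subtype.ext (one_smul _ _)
      mul_smul := fun a b w => Subtype.ext (mul_smul _ _ _)
      smul_zero := fun a => Subtype.ext (smul_zero _)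
      smul_add := fun a v w => Subtype.ext (smul_add _ _ _) }
  obtain ⟨g, -, hg⟩ := h.descend W.subtype ⊤ le_top (Subgroup.topEquiv (G := A)).toMonoidHom
    (Subgroup.topEquiv (G := A)).surjective (fun s w => rfl) c
  rw [show c • x = W.subtype (g ⟨x, hx⟩) from (hg ⟨x, hx⟩).symm]
  exact (g ⟨x, hx⟩).2

/-- **The imprimitive step.** -/
theorem exists_blocks (hsol : Group.IsSolvable A) (hf : ∀ a : A, (∀ v : V, a • v = v) → a = 1)
    (hirr : Irr A V) (hk : KScal k A V) {U : Subgroup A} (hU : U.Normal)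
    (hUc : ∀ x ∈ U, ∀ y ∈ U, x * y = y * x)
    (hno : ¬ ∀ s ∈ scalars V U, s ≠ 0 → ∃ s' ∈ scalars V U, s * s' = 1) :
    ∃ (H : Type u) (_ : Group H) (_ : Finite H) (W : Type u) (_ : AddCommGroup W) (_ : Finite W)
      (_ : DistribMulAction H W) (_ : Module k W) (t : ℕ) (π : A →* Equiv.Perm (Fin t))
      (ψ : π.ker →* (Fin t → H)),
      2 ≤ t ∧ Group.IsSolvable H ∧ (∀ h : H, (∀ w : W, h • w = w) → h = 1) ∧ Irr H W ∧
      Nat.card H < Nat.card A ∧ Nat.card H ∣ Nat.card A ∧ KScal k H W ∧ Nat.card W ^ t = Nat.card V ∧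
      (∀ n : ℕ, (∀ v : V, n • v = 0) → ∀ w : W, n • w = 0) ∧
      Function.Injective ψ ∧ 3 * Nat.card π.range ≤ 3 ^ t ∧ Nat.card π.range ≤ t.factorial ∧
      (∀ (a : A) (b : π.ker) (i : Fin t), ∃ s : H,
        ψ ⟨a * b * a⁻¹, (MonoidHom.normal_ker π).conj_mem _ b.2 a⟩ (π a i) = s * ψ b i * s⁻¹) ∧
      (∀ w : W, ∃ v : V, ∀ b : π.ker, (b : A) • v = v → ∀ i, ψ b i • w = w) := by
  classical
  obtain ⟨e, he, hee, he0, he1, hprim⟩ := exists_primitive hirr hU hUc hno
  haveI : Finite (AddMonoid.End V) :=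
    Finite.of_injective (fun f => (f : V → V)) DFunLike.coe_injective
  let Ω := Set.range fun a : A => conjEnd (V := V) a e
  letI : MulAction A Ω :=
    { smul := fun a i => ⟨conjEnd a i.1, by
        obtain ⟨b, hb⟩ := i.2
        exact ⟨a * b, show conjEnd (a * b) e = _ by rw [conjEnd_mul]; exact congrArg _ hb⟩⟩
      one_smul := fun i => Subtype.ext (conjEnd_one i.1)
      mul_smul := fun a b i => Subtype.ext (conjEnd_mul a b i.1) }
  haveI : Fintype Ω := Fintype.ofFinite Ω
  have hmemS : ∀ i : Ω, (i : AddMonoid.End V) ∈ scalars V U := by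
    rintro ⟨_, a, rfl⟩; exact conjEnd_mem_scalars hU a he
  have hidem : ∀ i : Ω, (i : AddMonoid.End V) * i = i := by
    rintro ⟨_, a, rfl⟩
    show conjEnd a e * conjEnd a e = conjEnd a e
    rw [← map_mul, hee]
  have hpr : ∀ i : Ω, ∀ f ∈ scalars V U, f * f = f → f * i.1 = f → f = 0 ∨ f = i.1 := by
    rintro ⟨_, a, rfl⟩ f hf hff hfe
    have h := hprim (conjEnd a⁻¹ f) (conjEnd_mem_scalars hU _ hf) (by rw [← map_mul, hff]) (by
      have h := congrArg (conjEnd (V := V) a⁻¹) hfe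
      rwa [map_mul, ← conjEnd_mul, inv_mul_cancel, conjEnd_one] at h)
    have hb : conjEnd a (conjEnd a⁻¹ f) = f := by rw [← conjEnd_mul, mul_inv_cancel, conjEnd_one]
    rcases h with h | h
    · left; rw [← hb, h, map_zero]
    · right; show f = conjEnd a e; rw [← hb, h]
  have horth : ∀ i j : Ω, i ≠ j → (i : AddMonoid.End V) * j = 0 := by
    intro i j hij
    have hc := scalars_comm hUc (hmemS i) (hmemS j)
    have hff : (i : AddMonoid.End V) * j * (i.1 * j.1) = i.1 * j.1 := by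
      rw [show (i : AddMonoid.End V) * j * (i.1 * j.1) = i.1 * (j.1 * i.1) * j.1 by
        simp only [mul_assoc], ← hc, ← mul_assoc i.1, hidem i, mul_assoc, hidem j]
    have hS := mul_mem (hmemS i) (hmemS j)
    rcases hpr j _ hS hff (by rw [mul_assoc, hidem j]) with h | h
    · exact h
    rcases hpr i _ hS hff (by rw [mul_assoc, ← hc, ← mul_assoc, hidem i]) with h' | h'
    · exact h'
    exact absurd (Subtype.ext (h'.symm.trans h)) hij
  let i₀ : Ω := ⟨e, 1, conjEnd_one e⟩
  have htr : ∀ i : Ω, ∃ a : A, a • i₀ = i := by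
    rintro ⟨_, a, rfl⟩; exact ⟨a, rfl⟩
  choose t ht using htr
  have hsmul : ∀ (a : A) (i : Ω) (x : V), (a • i).1 (a • x) = a • i.1 x := fun a i x => by
    show conjEnd a i.1 (a • x) = _
    rw [conjEnd_apply, inv_smul_smul]
  have hsum : ∀ x : V, ∑ i : Ω, i.1 x = x := by
    let W : AddSubgroup V :=
      { carrier := {x | ∑ i : Ω, i.1 x = x}
        zero_mem' := by simp
        add_mem' := fun {x y} hx hy => by
          show ∑ i : Ω, i.1 (x + y) = x + y
          simp only [map_add, Finset.sum_add_distrib]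
          rw [hx, hy]
        neg_mem' := fun {x} hx => by
          show ∑ i : Ω, i.1 (-x) = -x
          simp only [map_neg, Finset.sum_neg_distrib]
          rw [hx] }
    have hW : Inv (⊤ : Subgroup A) W := by
      intro a _ x hx
      show ∑ i : Ω, i.1 (a • x) = a • x
      rw [← Equiv.sum_comp (MulAction.toPerm a : Equiv.Perm Ω) fun i => i.1 (a • x)]
      simp only [MulAction.toPerm_apply, hsmul, ← Finset.smul_sum]
      rw [show ∑ i : Ω, i.1 x = x from hx]
    obtain ⟨x, hx⟩ : ∃ x, e x ≠ 0 := by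
      by_contra hno
      push Not at hno
      exact he0 (DFunLike.ext _ _ hno)
    have hmem : e x ∈ W := by
      show ∑ i : Ω, i.1 (e x) = e x
      rw [Finset.sum_eq_single i₀]
      · exact DFunLike.congr_fun hee x
      · exact fun i _ hi => DFunLike.congr_fun (horth i i₀ hi) x
      · exact fun h => absurd (Finset.mem_univ _) h
    rcases hirr W hW with h | h
    · rw [h, AddSubgroup.mem_bot] at hmem; exact absurd hmem hx
    · intro y; exact (show y ∈ W by rw [h]; trivial)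
  haveI : MulAction.IsPretransitive A Ω := ⟨fun i j => ⟨t j * (t i)⁻¹, by
    rw [mul_smul, show (t i)⁻¹ • i = i₀ by rw [inv_smul_eq_iff, ht], ht]⟩⟩
  haveI : Nonempty Ω := ⟨i₀⟩
  -- the block and the group induced on it
  let S₀ := MulAction.stabilizer A i₀
  let W₀ : AddSubgroup V := AddMonoidHom.range (e : V →+ V)
  have hfixW : ∀ x ∈ W₀, e x = x := by
    rintro _ ⟨y, rfl⟩; exact DFunLike.congr_fun hee y
  have hW₀ : ∀ a ∈ S₀, ∀ x ∈ W₀, a • x ∈ W₀ := fun a ha x hx => by
    refine ⟨a • x, ?_⟩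
    have h := hsmul a i₀ x
    rw [show a • i₀ = i₀ from ha] at h
    rw [show i₀.1 x = x from hfixW x hx] at h
    exact h
  letI : DistribMulAction S₀ W₀ :=
    { smul := fun a w => ⟨(a : A) • (w : V), hW₀ a a.2 w w.2⟩
      one_smul := fun w => Subtype.ext (one_smul _ _)
      mul_smul := fun a b w => Subtype.ext (mul_smul _ _ _)
      smul_zero := fun a => Subtype.ext (smul_zero _)
      smul_add := fun a v w => Subtype.ext (smul_add _ _ _) }
  haveI : Finite (AddMonoid.End W₀) :=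
    Finite.of_injective (fun f => (f : W₀ → W₀)) DFunLike.coe_injective
  let φ : S₀ →* (AddMonoid.End W₀)ˣ := (DistribMulAction.toAddMonoidEnd S₀ W₀).toHomUnits
  have hφ : ∀ (s : S₀) (w : W₀),
      (((⟨φ s, s, rfl⟩ : φ.range) • w : W₀) : V) = (s : A) • (w : V) := fun s w => rfl
  have hcomp : ∀ (c : Ω → V), (∀ i, c i ∈ W₀) → ∀ i, i.1 (∑ j, t j • c j) = t i • c i := by
    intro c hc i
    have hj : ∀ j, t j • c j = j.1 (t j • c j) := fun j => by
      have h := hsmul (t j) i₀ (c j)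
      rw [ht j, show i₀.1 (c j) = c j from hfixW _ (hc j)] at h
      exact h.symm
    rw [map_sum, Finset.sum_eq_single i]
    · exact (hj i).symm
    · intro j _ hne
      rw [hj j]
      exact DFunLike.congr_fun (horth i j hne.symm) _
    · exact fun h => absurd (Finset.mem_univ _) h
  have hpart : ∀ (i : Ω) (v : V), (t i)⁻¹ • i.1 v = e ((t i)⁻¹ • v) := fun i v => by
    have h := hsmul (t i) i₀ ((t i)⁻¹ • v)
    rw [ht, smul_inv_smul] at h
    rw [h, inv_smul_smul]
  let Φ : V ≃ (Ω → W₀) :=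
    { toFun := fun v i => ⟨(t i)⁻¹ • i.1 v, by rw [hpart]; exact ⟨_, rfl⟩⟩
      invFun := fun c => ∑ i, t i • (c i : V)
      left_inv := fun v => by simp only [smul_inv_smul, hsum]
      right_inv := fun c => funext fun i => Subtype.ext (by
        show (t i)⁻¹ • i.1 (∑ j, t j • (c j : V)) = _
        rw [hcomp (fun j => (c j : V)) (fun j => (c j).2), inv_smul_smul]) }
  have ht2 : 2 ≤ Nat.card Ω := by
    by_contra hlt
    push Not at hlt
    have : Subsingleton Ω := Finite.card_le_one_iff_subsingleton.1 (by omega)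
    refine he1 (DFunLike.ext _ _ fun y => ?_)
    have h := hsum y
    rw [Finset.sum_eq_single i₀ (fun i _ hi => absurd (Subsingleton.elim i i₀) hi)
      (fun h => absurd (Finset.mem_univ _) h)] at h
    exact h
  have hHlt : Nat.card φ.range < Nat.card A := by
    refine lt_of_le_of_lt (Nat.le_of_dvd Nat.card_pos (Subgroup.card_range_dvd φ))
      (lt_of_le_of_ne (Subgroup.card_le_card_group S₀) fun h => ?_)
    obtain ⟨i, j, hij⟩ := Finite.one_lt_card_iff_nontrivial.1 (show 1 < Nat.card Ω by omega)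
    have htop : ∀ i : Ω, i = i₀ := fun i => by
      rw [← ht i]
      exact (show t i ∈ S₀ by rw [(Subgroup.card_eq_iff_eq_top S₀).1 h]; trivial : t i • i₀ = i₀)
    exact hij ((htop i).trans (htop j).symm)
  -- the kernel of the action on the blocks
  let π := MulAction.toPermHom A Ω
  have hkern : ∀ (b : π.ker) (i : Ω), (t i)⁻¹ * (b : A) * t i ∈ S₀ := fun b i => by
    have hb : (b : A) • i = i := Equiv.ext_iff.1 (MonoidHom.mem_ker.1 b.2) i
    rw [MulAction.mem_stabilizer_iff, mul_smul, mul_smul, ht, hb, inv_smul_eq_iff, ht]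
  let ψ : π.ker →* (Ω → φ.range) :=
    { toFun := fun b i => ⟨φ ⟨_, hkern b i⟩, _, rfl⟩
      map_one' := funext fun i => Subtype.ext (by
        show φ ⟨_, hkern 1 i⟩ = 1
        rw [← map_one φ]
        exact congrArg φ (Subtype.ext (by simp)))
      map_mul' := fun b c => funext fun i => Subtype.ext (by
        show φ ⟨_, hkern (b * c) i⟩ = φ ⟨_, hkern b i⟩ * φ ⟨_, hkern c i⟩
        rw [← map_mul φ]
        exact congrArg φ (Subtype.ext (by simp [mul_assoc]))) }
  have hψ : Function.Injective ψ := by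
    refine (injective_iff_map_eq_one ψ).2 fun b hb => Subtype.ext (hf _ fun v => ?_)
    have hi : ∀ i : Ω, (b : A) • i.1 v = i.1 v := fun i => by
      have h1 : ((t i)⁻¹ * (b : A) * t i) • ((t i)⁻¹ • i.1 v) = (t i)⁻¹ • i.1 v := by
        have hmem : (t i)⁻¹ • i.1 v ∈ W₀ := by rw [hpart]; exact ⟨_, rfl⟩
        have h2 := congrArg (fun h : φ.range => ((h • (⟨_, hmem⟩ : W₀) : W₀) : V)) (congrFun hb i)
        simpa [ψ, hφ] using h2
      rwa [mul_smul, smul_inv_smul, mul_smul, smul_left_cancel_iff] at h1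
    conv_lhs => rw [← hsum v, Finset.smul_sum]
    rw [Finset.sum_congr rfl fun i _ => hi i, hsum]
  have hcS : center A ≤ S₀ := fun z hz => by
    refine MulAction.mem_stabilizer_iff.2 (Subtype.ext ?_)
    show conjEnd z i₀.1 = i₀.1
    refine DFunLike.ext _ _ fun x => ?_
    rw [conjEnd_apply]
    have hc := DFunLike.congr_fun (commute_of_mem_scalars (f := endo A V z) (fun u _ => by
      rw [← map_mul, ← map_mul, mem_center_iff.1 hz u]) (hmemS i₀)) (z⁻¹ • x)
    calc z • i₀.1 (z⁻¹ • x) = i₀.1 (z • z⁻¹ • x) := hc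
      _ = i₀.1 x := by rw [smul_inv_smul]
  have hW₀k : ∀ (c : k) (x : V), x ∈ W₀ → c • x ∈ W₀ := fun c x hx => by
    obtain ⟨g, -, hg⟩ := hk.descend W₀.subtype S₀ hcS φ.rangeRestrict φ.rangeRestrict_surjective
      (fun s w => hφ s w) c
    rw [show c • x = W₀.subtype (g ⟨x, hx⟩) from (hg ⟨x, hx⟩).symm]
    exact (g ⟨x, hx⟩).2
  letI : Module k W₀ :=
    Function.Injective.module k (M := V) (M₂ := ({ W₀ with smul_mem' := fun c _ hx => hW₀k c _ hx } : Submodule k V))
      (Submodule.subtype _).toAddMonoidHom Subtype.val_injective (fun _ _ => rfl)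
  have hkW : KScal k φ.range W₀ := fun c => by
    obtain ⟨g, hg, hgw⟩ := hk.descend W₀.subtype S₀ hcS φ.rangeRestrict φ.rangeRestrict_surjective
      (fun s w => hφ s w) c
    exact ⟨g, hg, fun w => Subtype.ext (hgw w)⟩
  let eΩ : Fin (Nat.card Ω) ≃ Ω := (Finite.equivFin Ω).symm
  let π' : A →* Equiv.Perm (Fin (Nat.card Ω)) :=
    MonoidHom.mk' (fun a => (eΩ.trans (π a)).trans eΩ.symm) fun a b => by
      refine Equiv.ext fun i => ?_
      show eΩ.symm (π (a * b) (eΩ i)) = eΩ.symm (π a (eΩ (eΩ.symm (π b (eΩ i)))))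
      rw [Equiv.apply_symm_apply, map_mul, Equiv.Perm.mul_apply]
  have hπ'ker : ∀ b : A, π' b = 1 → b ∈ π.ker := fun b hb => MonoidHom.mem_ker.2 (Equiv.ext fun i => by
    have h1 : eΩ.symm (π b (eΩ (eΩ.symm i))) = eΩ.symm i := Equiv.ext_iff.1 hb (eΩ.symm i)
    rw [Equiv.apply_symm_apply] at h1
    exact eΩ.symm.injective h1)
  let ψ' : π'.ker →* (Fin (Nat.card Ω) → φ.range) :=
    MonoidHom.mk' (fun b i => ψ ⟨b, hπ'ker b b.2⟩ (eΩ i)) fun b c => funext fun i => by
      show ψ ⟨((b * c : π'.ker) : A), _⟩ (eΩ i) = _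
      rw [show (⟨((b * c : π'.ker) : A), hπ'ker _ (b * c).2⟩ : π.ker) =
        ⟨b, hπ'ker b b.2⟩ * ⟨c, hπ'ker c c.2⟩ from rfl, map_mul]
      rfl
  have hψ' : Function.Injective ψ' := fun b c hbc => by
    have h1 : ψ ⟨b, hπ'ker b b.2⟩ = ψ ⟨c, hπ'ker c c.2⟩ := funext fun i => by
      have := congrFun hbc (eΩ.symm i)
      change ψ ⟨b, hπ'ker b b.2⟩ (eΩ (eΩ.symm i)) = ψ ⟨c, hπ'ker c c.2⟩ (eΩ (eΩ.symm i)) at this
      rwa [Equiv.apply_symm_apply] at this
    exact Subtype.ext (congrArg (fun x : π.ker => (x : A)) (hψ h1))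
  refine ⟨φ.range, inferInstance, inferInstance, W₀, inferInstance, inferInstance, inferInstance,
    inferInstance, Nat.card Ω, π', ψ', ht2, Group.isSolvable_of_surjective φ.rangeRestrict_surjective,
    ?_, ?_, hHlt, (Subgroup.card_range_dvd φ).trans (Subgroup.card_subgroup_dvd_card S₀), hkW, ?_,
    fun n hn w => Subtype.ext (by rw [AddSubgroup.coe_nsmul, hn, AddSubgroup.coe_zero]), hψ', ?_, ?_, ?_, ?_⟩
  · -- faithful
    rintro ⟨_, s, rfl⟩ h
    refine Subtype.ext (Units.ext (DFunLike.ext _ _ fun w => ?_))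
    exact h w
  · -- irreducible
    intro Y hY
    let X : AddSubgroup V := ⨆ a : A, (Y.map W₀.subtype).map (DistribSMul.toAddMonoidHom V a)
    have hX : Inv (⊤ : Subgroup A) X := by
      intro b _ x hx
      have : X ≤ X.comap (DistribSMul.toAddMonoidHom V b) := iSup_le fun a => by
        rintro _ ⟨y, hy, rfl⟩
        refine AddSubgroup.mem_iSup_of_mem (b * a) ⟨y, hy, ?_⟩
        simp [mul_smul]
      exact this hx
    rcases hirr X hX with h | h
    · refine Or.inl ((AddSubgroup.eq_bot_iff_forall _).2 fun y hy => Subtype.ext ?_)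
      have h' : (1 : A) • (y : V) ∈ X :=
        AddSubgroup.mem_iSup_of_mem 1 ⟨y, ⟨y, hy, rfl⟩, rfl⟩
      rwa [h, AddSubgroup.mem_bot, one_smul] at h'
    · refine Or.inr (eq_top_iff.2 fun x _ => ?_)
      have hXY : X ≤ (Y.map W₀.subtype).comap e := iSup_le fun a => by
        rintro _ ⟨_, ⟨y, hy, rfl⟩, rfl⟩
        show e (a • (y : V)) ∈ Y.map W₀.subtype
        by_cases ha : a ∈ S₀
        · rw [hfixW _ (hW₀ a ha _ y.2)]
          exact ⟨_, hY ⟨φ ⟨a, ha⟩, ⟨a, ha⟩, rfl⟩ trivial y hy, rfl⟩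
        · have h1 : a • (y : V) = (a • i₀).1 (a • (y : V)) := by
            rw [hsmul]; exact congrArg _ (hfixW y y.2).symm
          rw [h1, show e ((a • i₀).1 (a • (y : V))) = (i₀.1 * (a • i₀).1) (a • (y : V)) from rfl,
            horth i₀ (a • i₀) fun hh => ha hh.symm]
          exact zero_mem _
      have h' : e (x : V) ∈ Y.map W₀.subtype := hXY (show (x : V) ∈ X by rw [h]; trivial)
      rw [hfixW _ x.2] at h'
      obtain ⟨y, hy, hyx⟩ := h'
      rwa [show y = x from Subtype.ext hyx] at hy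
  · -- the size
    rw [← Nat.card_fun, ← Nat.card_congr Φ]
  · haveI : MulAction.IsPretransitive π'.range (Fin (Nat.card Ω)) := ⟨fun i j => by
      obtain ⟨a, ha⟩ := MulAction.exists_smul_eq A (eΩ i) (eΩ j)
      refine ⟨⟨_, a, rfl⟩, ?_⟩
      show eΩ.symm (a • eΩ i) = j
      rw [ha, Equiv.symm_apply_apply]⟩
    haveI : Nonempty (Fin (Nat.card Ω)) := ⟨eΩ.symm i₀⟩
    have h3 := three_mul_card_le (T := π'.range) (Ω := Fin (Nat.card Ω))
      (Group.isSolvable_of_surjective π'.rangeRestrict_surjective)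
    rwa [Nat.card_fin] at h3
  · refine (Subgroup.card_le_card_group _).trans ?_
    rw [Nat.card_perm, Nat.card_fin]
  · intro a b i
    have hi : eΩ (π' a i) = a • eΩ i := by
      show eΩ (eΩ.symm (a • eΩ i)) = _
      rw [Equiv.apply_symm_apply]
    have hsm : (t (a • eΩ i))⁻¹ * a * t (eΩ i) ∈ S₀ := by
      rw [MulAction.mem_stabilizer_iff, mul_smul, mul_smul, ht, inv_smul_eq_iff, ht]
    refine ⟨⟨φ ⟨_, hsm⟩, _, rfl⟩, ?_⟩
    show ψ _ (eΩ (π' a i)) = _ * ψ _ (eΩ i) * _
    rw [hi]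
    refine Subtype.ext ?_
    show φ _ = φ ⟨_, hsm⟩ * φ _ * (φ ⟨_, hsm⟩)⁻¹
    rw [← map_mul, ← map_inv, ← map_mul]
    refine congrArg φ (Subtype.ext ?_)
    push_cast
    group
  · intro w
    refine ⟨∑ j, t j • (w : V), fun b hb i => Subtype.ext ?_⟩
    have hbi : (b : A) • eΩ i = eΩ i := Equiv.ext_iff.1 (MonoidHom.mem_ker.1 (hπ'ker b b.2)) (eΩ i)
    have h1 := hsmul (b : A) (eΩ i) (∑ j, t j • (w : V))
    rw [hbi, hb, hcomp (fun _ => (w : V)) (fun _ => w.2)] at h1
    show (((⟨φ ⟨_, hkern ⟨b, hπ'ker b b.2⟩ (eΩ i)⟩, _, rfl⟩ : φ.range) • w : W₀) : V) = w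
    rw [hφ]
    show ((t (eΩ i))⁻¹ * (b : A) * t (eΩ i)) • (w : V) = w
    rw [mul_smul, mul_smul, ← h1, inv_smul_smul]

end CfsgLib.ClassLin
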