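import Cfsg.Agent.Lib.StructB.PiClassesMul
import Cfsg.Agent.Lib.ClassNumberPSq.Count
import Cfsg.Agent.Lib.ClassNumberPSq.Reduce

/-!
Upper bounds for the class numbers of all subgroups of a group.
-/

set_option autoImplicit false
set_option linter.style.haveILetI false
set_option linter.unusedSectionVars false

namespace CfsgLib.ClassLin

open Subgroup

universe u v

variable {G : Type u} [Group G] [Finite G]

/-- The class number of an extension. -/
theorem classes_le_mul (N : Subgroup G) [N.Normal] :
    Nat.card (ConjClasses G) ≤ Nat.card (ConjClasses N) * Nat.card (ConjClasses (G ⧸ N)) := by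
  have h := CfsgLib.StructB.card_piClasses_le_mul_quotient N Set.univ
  refine le_of_eq_of_le ?_ (h.trans (Nat.mul_le_mul (Nat.le_of_eq ?_) (Nat.le_of_eq ?_)))
  all_goals first
    | exact (Nat.card_congr (Equiv.subtypeUnivEquiv fun C q _ _ => Set.mem_univ q)).symm
    | exact Nat.card_congr (Equiv.subtypeUnivEquiv fun C q _ _ => Set.mem_univ q)

theorem classes_le_card : Nat.card (ConjClasses G) ≤ Nat.card G :=
  Nat.card_le_card_of_surjective _ ConjClasses.mk_surjective

/-- The class number under a surjection. -/
theorem classes_le_of_surjective {H : Type v} [Group H] [Finite H] (f : G →* H) (hf : Function.Surjective f) :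
    Nat.card (ConjClasses H) ≤ Nat.card (ConjClasses G) :=
  Nat.card_le_card_of_surjective _ (ConjClasses.map_surjective hf)

theorem classes_congr {H : Type v} [Group H] [Finite H] (e : G ≃* H) :
    Nat.card (ConjClasses G) = Nat.card (ConjClasses H) :=
  le_antisymm (classes_le_of_surjective e.symm.toMonoidHom e.symm.surjective)
    (classes_le_of_surjective e.toMonoidHom e.surjective)

/-- A noncommutative group has at most five eighths as many classes as elements. -/
theorem classes_five_eighths (h : ∃ a b : G, a * b ≠ b * a) :
    8 * Nat.card (ConjClasses G) ≤ 5 * Nat.card G := by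
  classical
  have := Fintype.ofFinite G
  set Z := center G with hZ
  have hzt : Z ≠ ⊤ := fun e => by
    obtain ⟨a, b, hab⟩ := h
    exact hab ((mem_center_iff.1 (e.ge (mem_top a)) b).symm)
  -- the centre has index at least four
  have h4 : 4 ≤ Z.index := by
    by_contra hlt
    push Not at hlt
    have hcyc : IsCyclic (G ⧸ Z) := by
      have h0 : Z.index ≠ 0 := index_ne_zero_of_finite
      have hc : Nat.card (G ⧸ Z) = Z.index := rfl
      rcases (show Z.index = 1 ∨ Z.index = 2 ∨ Z.index = 3 by omega) with e | e | e
      · have : Subsingleton (G ⧸ Z) := Finite.card_le_one_iff_subsingleton.1 (by omega)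
        exact isCyclic_of_subsingleton
      · exact isCyclic_of_prime_card (p := 2) (hc.trans e)
      · exact isCyclic_of_prime_card (p := 3) (hc.trans e)
    obtain ⟨a, b, hab⟩ := h
    exact hab (commutative_of_cyclic_center_quotient (QuotientGroup.mk' Z)
      (by rw [QuotientGroup.ker_mk']) a b)
  have hcen : ∀ x : G, x ∉ Z → 2 * Nat.card (centralizer ({x} : Set G)) ≤ Nat.card G := by
    intro x hx
    have hi : 2 ≤ (centralizer ({x} : Set G)).index := by
      have h0 : (centralizer ({x} : Set G)).index ≠ 0 := index_ne_zero_of_finite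
      have h1 : (centralizer ({x} : Set G)).index ≠ 1 := fun e => hx (mem_center_iff.2 fun g =>
        mem_centralizer_singleton_iff.1 ((index_eq_one.1 e).ge (mem_top g)))
      omega
    rw [← (centralizer ({x} : Set G)).card_mul_index, mul_comm 2]
    exact Nat.mul_le_mul_left _ hi
  have hsum : 2 * (Nat.card (ConjClasses G) * Nat.card G) ≤
      (Nat.card Z + Nat.card G) * Nat.card G := by
    rw [← CfsgLib.ClassPSq.sum_card_centralizer, Finset.mul_sum]
    calc ∑ x : G, 2 * Nat.card (centralizer ({x} : Set G))
        ≤ ∑ x : G, ((if x ∈ Z then Nat.card G else 0) + Nat.card G) := by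
          refine Finset.sum_le_sum fun x _ => ?_
          split_ifs with hx
          · have := card_le_card_group (centralizer ({x} : Set G))
            omega
          · simpa using hcen x hx
      _ = _ := by
          rw [Finset.sum_add_distrib, ← Finset.sum_filter, Finset.sum_const, Finset.sum_const,
            Finset.card_univ, smul_eq_mul, smul_eq_mul, ← Fintype.card_subtype, ← Nat.card_eq_fintype_card,
            ← Nat.card_eq_fintype_card, add_mul]
  have hle : 2 * Nat.card (ConjClasses G) ≤ Nat.card Z + Nat.card G :=
    Nat.le_of_mul_le_mul_right (by rw [mul_assoc]; exact hsum) Nat.card_pos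
  have hz : 4 * Nat.card Z ≤ Nat.card G := by
    rw [← Z.card_mul_index, mul_comm 4]
    exact Nat.mul_le_mul_left _ h4
  omega

/-- Every subgroup has at most `m` classes. -/
def KB (G : Type u) [Group G] (m : ℕ) : Prop := ∀ H : Subgroup G, Nat.card (ConjClasses H) ≤ m

theorem KB.mono {m m' : ℕ} (h : KB G m) (hle : m ≤ m') : KB G m' := fun H => (h H).trans hle

theorem KB.self {m : ℕ} (h : KB G m) : Nat.card (ConjClasses G) ≤ m :=
  (classes_congr (Subgroup.topEquiv (G := G))).ge.trans (h ⊤)

theorem KB.one_le {m : ℕ} (h : KB G m) : 1 ≤ m := le_trans Nat.card_pos h.self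

/-- An injection passes the bound down. -/
theorem KB.of_injective {H : Type v} [Group H] [Finite H] {m : ℕ} (h : KB H m) (f : G →* H)
    (hf : Function.Injective f) : KB G m := fun K =>
  (classes_congr (K.equivMapOfInjective f hf)).le.trans (h _)

theorem KB.of_card_le {m : ℕ} (h : Nat.card G ≤ m) : KB G m := fun H =>
  classes_le_card.trans ((card_le_card_group H).trans h)

/-- A surjection passes the bound down. -/
theorem KB.of_surjective {H : Type v} [Group H] [Finite H] {m : ℕ} (h : KB G m) (f : G →* H)
    (hf : Function.Surjective f) : KB H m := fun K =>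
  (classes_le_of_surjective (f.subgroupComap K) (by
    rintro ⟨y, hy⟩
    obtain ⟨x, rfl⟩ := hf y
    exact ⟨⟨x, hy⟩, rfl⟩)).trans (h (K.comap f))

/-- The bound for an extension. -/
theorem KB.of_hom {H : Type v} [Group H] [Finite H] (f : G →* H) {m n : ℕ} (hm : KB f.ker m)
    (hn : KB H n) : KB G (m * n) := fun K => by
  set φ := f.comp K.subtype with hφ
  refine (classes_le_mul φ.ker).trans (Nat.mul_le_mul ?_ ?_)
  · let g : φ.ker →* f.ker := (K.subtype.comp φ.ker.subtype).codRestrict f.ker fun x => x.2
    have hg : Function.Injective g := fun x y e => Subtype.ext (Subtype.ext (congrArg Subtype.val e :))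
    exact (hm.of_injective g hg).self
  · exact (hn.of_injective (QuotientGroup.kerLift φ) (QuotientGroup.kerLift_injective φ)).self

/-- The bound for a product. -/
theorem KB.prod {H : Type v} [Group H] [Finite H] {m n : ℕ} (hG : KB G m) (hH : KB H n) :
    KB (G × H) (m * n) := by
  refine KB.of_hom (MonoidHom.snd G H) ?_ hH
  refine hG.of_injective ((MonoidHom.fst G H).comp (MonoidHom.snd G H).ker.subtype) fun x y e => ?_
  exact Subtype.ext (Prod.ext e ((MonoidHom.mem_ker.1 x.2).trans (MonoidHom.mem_ker.1 y.2).symm))

/-- The bound for a power. -/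
theorem KB.pi {H : Type v} [Group H] [Finite H] {m : ℕ} (h : KB H m) :
    ∀ t : ℕ, KB (Fin t → H) (m ^ t) := by
  intro t
  induction t with
  | zero => exact KB.of_card_le (by simp)
  | succ t ih =>
    rw [pow_succ']
    let e : (Fin (t + 1) → H) →* H × (Fin t → H) :=
      MonoidHom.mk' (fun x => (x 0, Fin.tail x)) fun x y => rfl
    exact (h.prod ih).of_injective e fun x y exy => by
      funext i
      refine Fin.cases ?_ (fun j => ?_) i
      · exact congrArg Prod.fst exy
      · exact congrFun (congrArg Prod.snd exy) j

theorem KB.piType {H : Type v} [Group H] [Finite H] {m : ℕ} (h : KB H m) (Ω : Type*) [Finite Ω] :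
    KB (Ω → H) (m ^ Nat.card Ω) := by
  let e : (Ω → H) →* (Fin (Nat.card Ω) → H) :=
    MonoidHom.mk' (fun x i => x ((Finite.equivFin Ω).symm i)) fun x y => rfl
  exact (h.pi _).of_injective e fun x y exy => funext fun a => by
    have := congrFun exy (Finite.equivFin Ω a)
    simpa [e] using this

/-- The bound from the order. -/
theorem KB.of_five_eighths {m : ℕ} (h8 : 5 * Nat.card G ≤ 8 * m)
    (hab : (∀ a b : G, a * b = b * a) → Nat.card G ≤ m) : KB G m := fun H => by
  by_cases hc : ∀ a b : H, a * b = b * a
  · by_cases ht : H = ⊤
    · subst ht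
      exact classes_le_card.trans ((card_le_card_group _).trans (hab fun a b =>
        congrArg Subtype.val (hc ⟨a, trivial⟩ ⟨b, trivial⟩)))
    · have h2 : 2 * Nat.card H ≤ Nat.card G := by
        have h1 : H.index ≠ 1 := fun e => ht (index_eq_one.1 e)
        have h0 : H.index ≠ 0 := index_ne_zero_of_finite
        rw [← H.card_mul_index, mul_comm 2]
        exact Nat.mul_le_mul_left _ (by omega)
      exact classes_le_card.trans (by omega)
  · push Not at hc
    have := classes_five_eighths hc
    have := card_le_card_group H
    omega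

end CfsgLib.ClassLin
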