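import Cfsg.Agent.Lib.ClassLin.LayerAux

/-!
The layer: class numbers of solvable groups of isometries without invariant isotropic subgroups.
-/

set_option autoImplicit false
set_option linter.unusedSectionVars false
set_option linter.style.haveILetI false
set_option maxHeartbeats 1000000

namespace CfsgLib.ClassLin

open Subgroup
open CfsgLib.BaseTwo (Irr Inv)
open CfsgLib.ClassPSq (IsPairing Bd)

universe u

variable {A W μ : Type u} [Group A] [Finite A] [CommGroup W] [Finite W] [CommGroup μ] [Finite μ]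
  [IsCyclic μ] {β : W → W → μ}

/-- Membership in the restriction of an action to an invariant subgroup. -/
def restrictAct (act : A →* MulAut W) (X : Subgroup W) (hX : ∀ a : A, ∀ x ∈ X, act a x ∈ X) : A →* MulAut X :=
  MonoidHom.mk' (fun a =>
    { toFun := fun x => ⟨act a x, hX a x x.2⟩
      invFun := fun x => ⟨act a⁻¹ x, hX a⁻¹ x x.2⟩
      left_inv := fun x => Subtype.ext (by
        show act a⁻¹ (act a x) = x
        rw [map_inv, MulAut.inv_apply_self])
      right_inv := fun x => Subtype.ext (by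
        show act a (act a⁻¹ x) = x
        rw [map_inv, MulAut.apply_inv_self])
      map_mul' := fun x y => Subtype.ext (map_mul (act a) (x : W) y) })
    fun a b => MulEquiv.ext fun x => Subtype.ext (by
      show act (a * b) (x : W) = act a (act b x)
      rw [map_mul]; rfl)

theorem restrictAct_apply (act : A →* MulAut W) (X : Subgroup W) (hX : ∀ a : A, ∀ x ∈ X, act a x ∈ X)
    (a : A) (x : X) : (restrictAct act X hX a x : W) = act a x := rfl

/-- The irreducible case. -/
theorem layer_irreducible (hβ : IsPairing β) (hsol : Group.IsSolvable A) (act : A →* MulAut W) (C : Subgroup A)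
    (hiso : ∀ c ∈ C, ∀ x y : W, β (act c x) (act c y) = β x y) {q : ℕ} (hq : q.Prime) (hexp : ∀ w : W, w ^ q = 1)
    (hirr : ∀ Y : Subgroup W, (∀ a : A, ∀ y ∈ Y, act a y ∈ Y) → Y = ⊥ ∨ Y = ⊤)
    {e : ℕ} (he : Nat.card W = e * e) (hW1 : 1 < Nat.card W) : KB (C.map act) (3 ^ (e - 1)) := by
  classical
  haveI : Fact q.Prime := ⟨hq⟩
  haveI : Finite (MulAut W) := Finite.of_injective (fun φ : MulAut W => (φ : W → W)) DFunLike.coe_injective
  obtain ⟨n, hn⟩ : ∃ n, Nat.card W = q ^ n := by
    refine IsPGroup.iff_card.1 fun w => ⟨1, ?_⟩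
    rw [pow_one, hexp]
  obtain ⟨d, -, hd⟩ := (Nat.dvd_prime_pow hq).1 (show e ∣ q ^ n from hn ▸ he ▸ dvd_mul_right e e)
  subst hd
  have hd1 : 1 ≤ d := by
    rcases Nat.eq_zero_or_pos d with rfl | h
    · rw [pow_zero] at he; omega
    · exact h
  have hpres : ∀ (s : C.map act) (x y : W), β ((s : MulAut W) x) ((s : MulAut W) y) = β x y := by
    rintro ⟨_, c, hc, rfl⟩ x y
    exact hiso c hc x y
  have hS : Nat.card (C.map act) ≤ Bd (q ^ d) :=
    hβ.card_le (C.map act).subtype Subtype.val_injective hpres he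
  -- the linear group
  let T : Subgroup (MulAut W) := act.range
  letI : DistribMulAction T (Additive W) :=
    { smul := fun s x => Additive.ofMul ((s : MulAut W) x.toMul)
      one_smul := fun x => rfl
      mul_smul := fun s t x => rfl
      smul_zero := fun s => by
        show Additive.ofMul ((s : MulAut W) 1) = 0
        rw [map_one]; rfl
      smul_add := fun s x y => by
        show Additive.ofMul ((s : MulAut W) (x.toMul * y.toMul)) = _
        rw [map_mul]; rfl }
  have L : LinGrp T (Additive W) q (2 * d) := by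
    refine ⟨(haveI := hsol; Group.isSolvable_of_surjective act.rangeRestrict_surjective), fun s hs => ?_, ?_, ?_, ?_,
      by omega⟩
    · exact Subtype.ext (MulEquiv.ext fun w => congrArg Additive.toMul (hs (Additive.ofMul w)))
    · intro Y hY
      let Y' : Subgroup W := AddSubgroup.toSubgroup' Y
      have h := hirr Y' fun a y hy => hY ⟨_, a, rfl⟩ trivial (Additive.ofMul y) hy
      rcases h with h | h
      · left
        rw [eq_bot_iff]
        intro y hy
        have : y.toMul ∈ Y' := hy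
        rw [h, Subgroup.mem_bot] at this
        exact AddSubgroup.mem_bot.2 (congrArg Additive.ofMul this)
      · right
        rw [eq_top_iff]
        intro y _
        exact (show y.toMul ∈ Y' by rw [h]; trivial)
    · intro v
      rw [← ofMul_toMul v, ← ofMul_pow, hexp, ofMul_one]
    · rw [show Nat.card (Additive W) = Nat.card W from rfl, he, ← pow_add, two_mul]
  have hle : C.map act ≤ T := by
    rintro _ ⟨c, -, rfl⟩; exact ⟨c, rfl⟩
  have hN : ∀ N, LinBd.{u} q (2 * d) N → Nat.card (C.map act) ≤ N := fun N hN =>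
    (Subgroup.card_le_of_le hle).trans (hN T (Additive W) L)
  have hincl : Function.Injective (Subgroup.inclusion hle) := Subgroup.inclusion_injective hle
  by_cases hbig : (q = 2 → 6 ≤ d) ∧ (q = 3 → 3 ≤ d) ∧ (q = 5 → 2 ≤ d)
  · exact KB.of_card_le (hS.trans (bd_le_three_pow hq hd1 hbig.1 hbig.2.1 hbig.2.2))
  have hplane : d = 1 → ∃ f : C.map act →* Matrix.SpecialLinearGroup (Fin 2) (ZMod q), Function.Injective f := by
    rintro rfl
    rw [pow_one] at he
    exact exists_sl_hom hq hβ hexp he (C.map act) fun s hs => hpres ⟨s, hs⟩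
  simp only [not_and_or, Classical.not_imp, not_le] at hbig
  rcases hbig with ⟨rfl, hlt⟩ | ⟨rfl, hlt⟩ | ⟨rfl, hlt⟩
  · interval_cases d
    · -- four vectors
      exact (kb_of_card_four L.faith (by rw [L.card]; norm_num)).1.of_injective _ hincl
    · exact (kb_two_four L).of_injective _ hincl
    · exact KB.of_card_le ((hN 1296 linBd_two_six).trans (by norm_num))
    · exact KB.of_card_le ((hN 31104 linBd_two_eight).trans (by norm_num))
    · exact KB.of_card_le ((hN 629856 linBd_two_ten).trans (by norm_num))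
  · interval_cases d
    · obtain ⟨f, hf⟩ := hplane rfl
      exact (kb_sl_three.of_injective f hf).mono (by norm_num)
    · exact KB.of_card_le ((hN 4608 linBd_three_four).trans (by norm_num))
  · interval_cases d
    obtain ⟨f, hf⟩ := hplane rfl
    exact (kb_sl_five.of_injective f hf).mono (by norm_num)

/-- **The layer bound.** -/
theorem layer_kb (hβ : IsPairing β) (hsol : Group.IsSolvable A) (act : A →* MulAut W) (C : Subgroup A)
    (horth : ∀ (c : A) (x y : W), β x y = 1 → β (act c x) (act c y) = 1)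
    (hiso : ∀ c ∈ C, ∀ x y : W, β (act c x) (act c y) = β x y)
    (hno : ∀ X : Subgroup W, (∀ c : A, ∀ x ∈ X, act c x ∈ X) → (∀ x ∈ X, ∀ y ∈ X, β x y = 1) → X = ⊥)
    {e : ℕ} (he : Nat.card W = e * e) : KB (C.map act) (3 ^ (e - 1)) := by
  classical
  induction hn : Nat.card W using Nat.strong_induction_on generalizing W e with
  | _ n ih =>
  subst hn
  haveI : Finite (MulAut W) := Finite.of_injective (fun φ : MulAut W => (φ : W → W)) DFunLike.coe_injective
  rcases Nat.lt_or_ge 1 (Nat.card W) with hW1 | hW1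
  swap
  · have : Subsingleton W := Finite.card_le_one_iff_subsingleton.1 hW1
    have : Subsingleton (MulAut W) := ⟨fun a b => MulEquiv.ext fun w => Subsingleton.elim _ _⟩
    refine KB.of_card_le ?_
    rw [Nat.card_of_subsingleton (1 : C.map act)]
    exact Nat.one_le_pow _ _ (by norm_num)
  -- a minimal invariant subgroup
  obtain ⟨X, ⟨hX, hXne⟩, hXmin⟩ := Set.Finite.exists_minimal
    (s := {X : Subgroup W | (∀ a : A, ∀ x ∈ X, act a x ∈ X) ∧ X ≠ ⊥}) (Set.toFinite _)
    ⟨⊤, fun _ _ _ => trivial, fun h => by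
      have h1 : Nat.card W = 1 := by rw [← Subgroup.card_top (G := W), h, Subgroup.card_bot]
      omega⟩
  obtain ⟨q, hq, hqX⟩ := Nat.exists_prime_and_dvd (fun h => hXne (Subgroup.card_eq_one.1 h) : Nat.card X ≠ 1)
  haveI : Fact q.Prime := ⟨hq⟩
  have hXq : ∀ x ∈ X, x ^ q = 1 := by
    let Xq : Subgroup W := X ⊓ (powMonoidHom q : W →* W).ker
    have h1 : ∀ a : A, ∀ x ∈ Xq, act a x ∈ Xq := fun a x hx => ⟨hX a x hx.1, by
      show (act a x) ^ q = 1
      rw [← map_pow, show x ^ q = 1 from hx.2, map_one]⟩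
    have h2 : Xq ≠ ⊥ := fun h => by
      obtain ⟨x, hx⟩ := exists_prime_orderOf_dvd_card' (G := X) q hqX
      have : (x : W) ∈ Xq := ⟨x.2, by
        show (x : W) ^ q = 1
        rw [← hx, ← Subgroup.coe_pow, pow_orderOf_eq_one, Subgroup.coe_one]⟩
      rw [h, Subgroup.mem_bot, OneMemClass.coe_eq_one] at this
      rw [this, orderOf_one] at hx
      exact hq.one_lt.ne hx
    exact fun x hx => ((hXmin ⟨h1, h2⟩ inf_le_left) hx).2
  -- its orthogonal
  let Y : Subgroup W := ⨅ x : X, (hβ.toHom (x : W)).ker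
  have hmemY : ∀ {w : W}, w ∈ Y ↔ ∀ x ∈ X, β x w = 1 := fun {w} => by
    show w ∈ (⨅ x : X, (hβ.toHom (x : W)).ker) ↔ _
    rw [Subgroup.mem_iInf]
    exact ⟨fun h x hx => h ⟨x, hx⟩, fun h x => h x x.2⟩
  have hY : ∀ a : A, ∀ y ∈ Y, act a y ∈ Y := fun a y hy => hmemY.2 fun x hx => by
    have h1 := hmemY.1 hy (act a⁻¹ x) (hX a⁻¹ x hx)
    have h2 := horth a _ _ h1
    rwa [← MulAut.mul_apply, ← map_mul, mul_inv_cancel, map_one, MulAut.one_apply] at h2
  have hXY : X ⊓ Y = ⊥ := hno _ (fun a x hx => ⟨hX a x hx.1, hY a x hx.2⟩)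
    fun x hx y hy => hmemY.1 hy.2 x hx.1
  by_cases hXtop : X = ⊤
  · refine layer_irreducible hβ hsol act C hiso hq (fun w => hXq w (hXtop ▸ Subgroup.mem_top w))
      (fun Z hZ => ?_) he hW1
    by_cases hZ0 : Z = ⊥
    · exact Or.inl hZ0
    · exact Or.inr (top_le_iff.1 (hXtop ▸ hXmin ⟨hZ, hZ0⟩ (hXtop ▸ le_top)))
  -- the restrictions of the pairing
  let βX : X → X → μ := fun x y => β x y
  have hβX : IsPairing βX :=
    ⟨fun a b c => hβ.mul_left a b c, fun a b c => hβ.mul_right a b c, fun a => hβ.alt a, fun a ha => by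
      have : (a : W) ∈ X ⊓ Y := ⟨a.2, hmemY.2 fun x hx => by
        rw [hβ.skew a x, show β a x = 1 from ha ⟨x, hx⟩, inv_one]⟩
      rw [hXY, Subgroup.mem_bot] at this
      exact Subtype.ext this⟩
  let θ : X → (X →* μ) := fun x => (hβ.toHom (x : W)).comp X.subtype
  have hθ : Function.Injective θ := fun x x' h => by
    have h1 : x * x'⁻¹ = 1 := hβX.nondeg _ fun y => by
      have h2 : β x y = β x' y := DFunLike.congr_fun h y
      show β ((x : W) * (x' : W)⁻¹) y = 1
      rw [hβ.mul_left, hβ.inv_left, h2, mul_inv_cancel]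
    exact mul_inv_eq_one.1 h1
  have hfin := (card_hom_le (X := X) (μ := μ)).1
  have hsurj : Function.Surjective θ := ((Nat.bijective_iff_injective_and_card θ).2
    ⟨hθ, le_antisymm (Nat.card_le_card_of_injective θ hθ) (card_hom_le (X := X) (μ := μ)).2⟩).2
  have hsplit : ∀ w : W, ∃ x ∈ X, ∃ y ∈ Y, x * y = w := fun w => by
    obtain ⟨x₀, hx₀⟩ := hsurj ((hβ.toHom w).comp X.subtype)
    refine ⟨x₀, x₀.2, (x₀ : W)⁻¹ * w, hmemY.2 fun x hx => ?_, mul_inv_cancel_left _ _⟩
    have h1 : β (x₀ : W) x = β w x := DFunLike.congr_fun hx₀ ⟨x, hx⟩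
    have h2 : β (x₀ : W)⁻¹ x * β w x = 1 := by rw [hβ.inv_left, h1, inv_mul_cancel]
    rw [hβ.skew ((x₀ : W)⁻¹ * w) x, hβ.mul_left, h2, inv_one]
  let m : X × Y →* W := MonoidHom.coprod X.subtype Y.subtype
  have hm : Function.Bijective m := by
    refine ⟨(injective_iff_map_eq_one m).2 fun z hz => ?_, fun w => ?_⟩
    · have hz' : (z.1 : W) * (z.2 : W) = 1 := hz
      have h1 : (z.1 : W) ∈ X ⊓ Y := ⟨z.1.2, by
        rw [mul_eq_one_iff_eq_inv.1 hz']; exact Y.inv_mem z.2.2⟩
      rw [hXY, Subgroup.mem_bot] at h1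
      rw [h1, one_mul] at hz'
      exact Prod.ext (Subtype.ext h1) (Subtype.ext hz')
    · obtain ⟨x, hx, y, hy, rfl⟩ := hsplit w
      exact ⟨(⟨x, hx⟩, ⟨y, hy⟩), rfl⟩
  have hcard : Nat.card X * Nat.card Y = Nat.card W := by
    rw [← Nat.card_prod]
    exact Nat.card_congr (Equiv.ofBijective m hm)
  let βY : Y → Y → μ := fun x y => β x y
  have hβY : IsPairing βY :=
    ⟨fun a b c => hβ.mul_left a b c, fun a b c => hβ.mul_right a b c, fun a => hβ.alt a, fun a ha => by
      refine Subtype.ext (hβ.nondeg a fun w => ?_)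
      obtain ⟨x, hx, y, hy, rfl⟩ := hsplit w
      rw [hβ.mul_right, show β a y = 1 from ha ⟨y, hy⟩, hβ.skew x a, hmemY.1 a.2 x hx, inv_one, one_mul]⟩
  have hXlt : Nat.card X < Nat.card W := by
    refine lt_of_le_of_ne (Subgroup.card_le_card_group X) fun h => hXtop (Subgroup.eq_top_of_card_eq X h)
  have hX1 : 1 < Nat.card X := by
    have := Nat.le_of_dvd Nat.card_pos hqX
    have := hq.two_le
    omega
  have hYlt : Nat.card Y < Nat.card W := by
    have : 0 < Nat.card Y := Nat.card_pos
    have h2 : 2 * Nat.card Y ≤ Nat.card X * Nat.card Y := Nat.mul_le_mul_right _ hX1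
    omega
  obtain ⟨e₁, he₁⟩ := hβX.exists_sq
  obtain ⟨e₂, he₂⟩ := hβY.exists_sq
  have hee : e₁ * e₂ = e := Nat.mul_self_inj.1 (by rw [← he, ← hcard, he₁, he₂]; ring)
  let aX := restrictAct act X hX
  let aY := restrictAct act Y hY
  have hKX : KB (C.map aX) (3 ^ (e₁ - 1)) :=
    ih _ hXlt (W := X) (β := βX) hβX aX (fun c x y h => horth c x y h) (fun c hc x y => hiso c hc x y)
      (fun Z hZ hiso' => by
        have h := hno (Z.map X.subtype) (by rintro c _ ⟨x, hx, rfl⟩; exact ⟨aX c x, hZ c x hx, rfl⟩)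
          (by rintro _ ⟨x, hx, rfl⟩ _ ⟨y, hy, rfl⟩; exact hiso' x hx y hy)
        exact (Subgroup.map_eq_bot_iff_of_injective _ X.subtype_injective).1 h) he₁ rfl
  have hKY : KB (C.map aY) (3 ^ (e₂ - 1)) :=
    ih _ hYlt (W := Y) (β := βY) hβY aY (fun c x y h => horth c x y h) (fun c hc x y => hiso c hc x y)
      (fun Z hZ hiso' => by
        have h := hno (Z.map Y.subtype) (by rintro c _ ⟨x, hx, rfl⟩; exact ⟨aY c x, hZ c x hx, rfl⟩)
          (by rintro _ ⟨x, hx, rfl⟩ _ ⟨y, hy, rfl⟩; exact hiso' x hx y hy)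
        exact (Subgroup.map_eq_bot_iff_of_injective _ Y.subtype_injective).1 h) he₂ rfl
  haveI : Finite (MulAut X) := Finite.of_injective (fun φ : MulAut X => (φ : X → X)) DFunLike.coe_injective
  haveI : Finite (MulAut Y) := Finite.of_injective (fun φ : MulAut Y => (φ : Y → Y)) DFunLike.coe_injective
  have hprod := hKX.prod hKY
  let g : C →* MulAut W := act.comp C.subtype
  let ΦX : C →* C.map aX := MonoidHom.mk' (fun c => ⟨aX c, c, c.2, rfl⟩)
    fun c c' => Subtype.ext (map_mul aX (c : A) c')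
  let ΦY : C →* C.map aY := MonoidHom.mk' (fun c => ⟨aY c, c, c.2, rfl⟩)
    fun c c' => Subtype.ext (map_mul aY (c : A) c')
  let Φ := ΦX.prod ΦY
  have hker : g.ker = Φ.ker := by
    ext c
    simp only [MonoidHom.mem_ker]
    constructor
    · intro h
      have h' : ∀ w, act (c : A) w = w := fun w => DFunLike.congr_fun h w
      exact Prod.ext (Subtype.ext (MulEquiv.ext fun x => Subtype.ext (h' x)))
        (Subtype.ext (MulEquiv.ext fun x => Subtype.ext (h' x)))
    · intro h
      have h1 : ∀ x : X, act (c : A) x = x := fun x => congrArg Subtype.val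
        (DFunLike.congr_fun (congrArg Subtype.val (congrArg Prod.fst h)) x)
      have h2 : ∀ x : Y, act (c : A) x = x := fun x => congrArg Subtype.val
        (DFunLike.congr_fun (congrArg Subtype.val (congrArg Prod.snd h)) x)
      refine MulEquiv.ext fun w => ?_
      obtain ⟨x, hx, y, hy, rfl⟩ := hsplit w
      show act (c : A) (x * y) = x * y
      rw [map_mul, h1 ⟨x, hx⟩, h2 ⟨y, hy⟩]
  have hrange : g.range = C.map act := by rw [MonoidHom.range_comp, Subgroup.range_subtype]
  have hΦ : KB Φ.range (3 ^ (e₁ - 1) * 3 ^ (e₂ - 1)) :=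
    hprod.of_injective Φ.range.subtype Subtype.val_injective
  let iso : g.range ≃* Φ.range := (QuotientGroup.quotientKerEquivRange g).symm.trans
    ((QuotientGroup.quotientMulEquivOfEq hker).trans (QuotientGroup.quotientKerEquivRange Φ))
  refine ((hΦ.of_injective iso.toMonoidHom iso.injective).of_injective
    (MulEquiv.subgroupCongr hrange).symm.toMonoidHom (MulEquiv.injective _)).mono ?_
  rw [← pow_add]
  refine Nat.pow_le_pow_right (by norm_num) ?_
  have he₁0 : 1 ≤ e₁ := Nat.pos_of_ne_zero fun h => by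
    rw [h] at he₁; exact absurd he₁ Nat.card_pos.ne'
  have he₂0 : 1 ≤ e₂ := Nat.pos_of_ne_zero fun h => by
    rw [h] at he₂; exact absurd he₂ Nat.card_pos.ne'
  obtain ⟨i, rfl⟩ := Nat.exists_eq_add_of_le he₁0
  obtain ⟨j, rfl⟩ := Nat.exists_eq_add_of_le he₂0
  rw [← hee, show (1 + i) * (1 + j) = 1 + (i + j + i * j) by ring]
  omega

end CfsgLib.ClassLin
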