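import Cfsg.Agent.Lib.ClassLin.Main
import Cfsg.Agent.Lib.ClassLin.Layer

/-!
The layer hypothesis discharged.
-/

set_option autoImplicit false

namespace CfsgLib.ClassLin

universe u

theorem layerBound : LayerBound.{u} := by
  intro A W μ _ _ _ _ _ _ _ β hβ hsol act C horth hiso hno e he
  exact layer_kb hβ hsol act C horth hiso hno he

end CfsgLib.ClassLin
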