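import Cfsg.Agent.Lib.ClassNumberPSq.Field
import Cfsg.Agent.Lib.ClassNumberPSq.PairingBasic
import Cfsg.Agent.Lib.ClassLin.Basic
import Mathlib.GroupTheory.Nilpotent

/-!
The field case: the layer over a maximal abelian normal subgroup as a module with a pairing.
-/

set_option autoImplicit false
set_option linter.unusedSectionVars false
set_option linter.style.haveILetI false

namespace CfsgLib.ClassLin

open CfsgLib.BaseTwo (Irr FieldCase endo conjEnd conjEnd_apply conjEnd_mem_scalars scalars endo_mem_scalars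
  scalars_comm commute_of_mem_scalars)
open CfsgLib.ClassPSq (IsPairing)

universe u

variable {A V : Type u} [Group A] [Finite A] [AddCommGroup V] [Finite V] [DistribMulAction A V]

namespace Scalar

variable {U : Subgroup A} (F : FieldCase A V U)
include F

/-- Parameters of the scalar field, with the independence bound. -/
theorem field_params {p : ℕ} [Fact p.Prime] (hexp : ∀ v : V, p • v = 0) {k : Type*} [Field k] [Finite k]
    [Module k V] (hk : ∀ c : k, ∃ f ∈ scalars V U, ∀ v : V, f v = c • v)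
    (hkc : ∀ (a : A) (c : k) (v : V), a • c • v = c • a • v) :
    ∃ a d : ℕ, 1 ≤ a ∧ 1 ≤ d ∧ Nat.card V = Nat.card k ^ (a * d) ∧ Nat.card U ∣ Nat.card k ^ a - 1 ∧
      (Subgroup.centralizer (U : Set A)).index ≤ a ∧
      ∀ L E : Subgroup A, U ≤ L → L ≤ Subgroup.centralizer (U : Set A) →
        E ≤ Subgroup.centralizer (U : Set A) → U ≤ E →
        (∀ c ∈ L, ∀ y ∈ E, y * c * y⁻¹ * c⁻¹ ∈ U) → (∀ c ∈ L, (∀ y ∈ E, y * c = c * y) → c ∈ U) →
        U.relIndex L ≤ d * d ∧ U.relIndex L ≤ U.relIndex E := by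
  classical
  haveI := F.isDomain
  haveI : Finite (AddMonoid.End V) := Finite.of_injective (fun f => (f : V → V)) DFunLike.coe_injective
  letI : CommRing (scalars V U) :=
    { (inferInstance : Ring (scalars V U)) with
      mul_comm := fun a b => Subtype.ext (scalars_comm F.comm a.2 b.2) }
  let K := ↥(scalars V U)
  haveI : Fintype K := Fintype.ofFinite _
  letI : Field K := (Finite.isField_of_domain K).toField
  haveI : CharP K p := by
    refine CharP.charP_iff_prime_eq_zero Fact.out |>.2 ?_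
    refine Subtype.ext (DFunLike.ext _ _ fun v => ?_)
    show ((p : AddMonoid.End V)) v = 0
    rw [AddMonoid.End.natCast_apply, hexp]
  let ι : k →+* K :=
    { toFun := fun c => ⟨(hk c).choose, (hk c).choose_spec.1⟩
      map_one' := Subtype.ext (DFunLike.ext _ _ fun v => by
        show (hk 1).choose v = v
        rw [(hk 1).choose_spec.2, one_smul])
      map_mul' := fun c c' => Subtype.ext (DFunLike.ext _ _ fun v => by
        show (hk (c * c')).choose v = (hk c).choose ((hk c').choose v)
        rw [(hk _).choose_spec.2, (hk _).choose_spec.2, (hk _).choose_spec.2, mul_smul])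
      map_zero' := Subtype.ext (DFunLike.ext _ _ fun v => by
        show (hk 0).choose v = 0
        rw [(hk 0).choose_spec.2, zero_smul])
      map_add' := fun c c' => Subtype.ext (DFunLike.ext _ _ fun v => by
        show (hk (c + c')).choose v = (hk c).choose v + (hk c').choose v
        rw [(hk _).choose_spec.2, (hk _).choose_spec.2, (hk _).choose_spec.2, add_smul]) }
  have hι : ∀ (c : k) (v : V), (ι c : AddMonoid.End V) v = c • v := fun c => (hk c).choose_spec.2
  letI : Algebra k K := ι.toAlgebra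
  letI : Module K V := Module.compHom V (scalars V U).subtype
  haveI : Module.Finite K V := Module.Finite.of_finite
  haveI : Module.Finite k K := Module.Finite.of_finite
  haveI : IsGalois k K := inferInstance
  have hK : Nat.card K = Nat.card k ^ Module.finrank k K := Module.natCard_eq_pow_finrank
  have hV : Nat.card V = Nat.card K ^ Module.finrank K V := Module.natCard_eq_pow_finrank
  set C := Subgroup.centralizer (U : Set A) with hCdef
  have hd : 1 ≤ Module.finrank K V := by
    by_contra h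
    obtain ⟨v, hv⟩ := F.nt
    rw [show Module.finrank K V = 0 by omega, pow_zero] at hV
    exact hv (((Nat.card_eq_one_iff_unique.1 hV).1).elim v 0)
  refine ⟨Module.finrank k K, Module.finrank K V, Module.finrank_pos, hd, ?_, ?_, ?_, ?_⟩
  · rw [hV, hK, ← pow_mul]
  · rw [← hK, ← Nat.card_units]
    let g : U →* K := ⟨⟨fun u => ⟨endo A V u, endo_mem_scalars u.2⟩, Subtype.ext (map_one _)⟩,
      fun a b => Subtype.ext (map_mul _ _ _)⟩
    refine Subgroup.card_dvd_of_injective g.toHomUnits fun a b h => Subtype.ext (F.endo_inj ?_)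
    have := congrArg (fun x : Kˣ => ((x : K) : AddMonoid.End V)) h
    exact this
  · haveI := F.normal
    let σ : A → K ≃ₐ[k] K := fun a =>
      AlgEquiv.ofRingEquiv (f :=
        ({ toFun := fun s => ⟨conjEnd a (s : AddMonoid.End V), conjEnd_mem_scalars F.normal a s.2⟩
           invFun := fun s => ⟨conjEnd a⁻¹ (s : AddMonoid.End V), conjEnd_mem_scalars F.normal a⁻¹ s.2⟩
           left_inv := fun s => Subtype.ext (by
             show conjEnd a⁻¹ (conjEnd a (s : AddMonoid.End V)) = s
             rw [← CfsgLib.BaseTwo.conjEnd_mul, inv_mul_cancel, CfsgLib.BaseTwo.conjEnd_one])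
           right_inv := fun s => Subtype.ext (by
             show conjEnd a (conjEnd a⁻¹ (s : AddMonoid.End V)) = s
             rw [← CfsgLib.BaseTwo.conjEnd_mul, mul_inv_cancel, CfsgLib.BaseTwo.conjEnd_one])
           map_mul' := fun s t => Subtype.ext (map_mul (conjEnd a) _ _)
           map_add' := fun s t => Subtype.ext (map_add (conjEnd a) _ _) } : K ≃+* K))
        (fun c => Subtype.ext (DFunLike.ext _ _ fun v => by
          show conjEnd a (ι c : AddMonoid.End V) v = (ι c : AddMonoid.End V) v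
          rw [conjEnd_apply, hι, hι, hkc, smul_inv_smul]))
    have hσ : ∀ a b : A, σ a = σ b → a⁻¹ * b ∈ C := by
      intro a b e
      refine Subgroup.mem_centralizer_iff.2 fun u hu => ?_
      have h : conjEnd a (endo A V u) = conjEnd b (endo A V u) :=
        congrArg Subtype.val (DFunLike.congr_fun e (⟨endo A V u, endo_mem_scalars hu⟩ : K))
      have h' : endo A V (a * u * a⁻¹) = endo A V (b * u * b⁻¹) := by
        simp only [map_mul]; exact h
      have h2 : a * u * a⁻¹ = b * u * b⁻¹ := F.endo_inj h'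
      calc u * (a⁻¹ * b) = a⁻¹ * (a * u * a⁻¹) * b := by group
        _ = a⁻¹ * (b * u * b⁻¹) * b := by rw [h2]
        _ = a⁻¹ * b * u := by group
    rw [Subgroup.index_eq_card, ← IsGalois.card_aut_eq_finrank k K]
    refine Nat.card_le_card_of_injective (fun q : A ⧸ C => σ q.out) fun a b e => ?_
    rw [← a.out_eq', ← b.out_eq']
    exact QuotientGroup.eq.2 (hσ _ _ e)
  intro L E hUL hLC hEC hUE hcomm hcent
  haveI := F.normal
  -- the characters
  let U' := U.subgroupOf L
  let W := ↥E ⧸ U.subgroupOf E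
  let χ : L → E →* K := fun c =>
    { toFun := fun y => ⟨endo A V (y * c * (y : A)⁻¹ * (c : A)⁻¹), endo_mem_scalars (hcomm c c.2 y y.2)⟩
      map_one' := Subtype.ext (by simp only [Subgroup.coe_one, one_mul, inv_one, mul_one, mul_inv_cancel, map_one]; rfl)
      map_mul' := fun y z => Subtype.ext (by
        show endo A V _ = endo A V _ * endo A V _
        rw [← map_mul]
        congr 1
        have hz := hcomm c c.2 z z.2
        have hy : (y : A) * ((z : A) * c * (z : A)⁻¹ * (c : A)⁻¹) = ((z : A) * c * (z : A)⁻¹ * (c : A)⁻¹) * y :=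
          (Subgroup.mem_centralizer_iff.1 (hEC y.2) _ hz).symm
        have hyc := hcomm c c.2 y y.2
        calc ((y * z : E) : A) * c * ((y * z : E) : A)⁻¹ * (c : A)⁻¹
            = (y : A) * ((z : A) * c * (z : A)⁻¹ * (c : A)⁻¹) * ((c : A) * (y : A)⁻¹ * (c : A)⁻¹) := by
              push_cast; group
          _ = ((z : A) * c * (z : A)⁻¹ * (c : A)⁻¹) * ((y : A) * c * (y : A)⁻¹ * (c : A)⁻¹) := by
              rw [hy]; group
          _ = _ := F.comm _ hz _ hyc) }
  have hχinj : ∀ c c' : L, χ c = χ c' → (c : A)⁻¹ * c' ∈ U := by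
    intro c c' e
    refine hcent _ (mul_mem (inv_mem c.2) c'.2) fun y hy => ?_
    have h1 := F.endo_inj (congrArg Subtype.val (DFunLike.congr_fun e (⟨y, hy⟩ : E)))
    have h2 : y * c * y⁻¹ * (c : A)⁻¹ = y * c' * y⁻¹ * (c' : A)⁻¹ := h1
    calc y * ((c : A)⁻¹ * c') = (y * c * y⁻¹)⁻¹ * (y * c' * y⁻¹) * y := by group
      _ = (y * c * y⁻¹)⁻¹ * ((y * c' * y⁻¹ * (c' : A)⁻¹) * c') * y := by group
      _ = (c : A)⁻¹ * c' * y := by rw [← h2]; group
  let g : L ⧸ U' → E →* K := fun q => χ q.out
  have hg : Function.Injective g := fun a b e => by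
    rw [← a.out_eq', ← b.out_eq']
    exact QuotientGroup.eq.2 (hχinj _ _ e)
  have hindep : LinearIndependent K (fun q => (g q : E → K)) :=
    (linearIndependent_monoidHom E K).comp g hg
  have hidx : U.relIndex L = Nat.card (L ⧸ U') := rfl
  haveI : Fintype (L ⧸ U') := Fintype.ofFinite _
  refine ⟨?_, ?_⟩
  · let Φ : L ⧸ U' → Module.End K V := fun q =>
      { toFun := fun v => (q.out : A) • v
        map_add' := smul_add _
        map_smul' := fun s v => by
          show (endo A V (q.out : A) * (s : AddMonoid.End V)) v = ((s : AddMonoid.End V) * endo A V (q.out : A)) v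
          rw [commute_of_mem_scalars (fun u hu => ?_) s.2]
          rw [← map_mul, ← map_mul, Subgroup.mem_centralizer_iff.1 (hLC q.out.2) u hu] }
    have hΦ : LinearIndependent K Φ := by
      rw [Fintype.linearIndependent_iff]
      intro a ha q₀
      have hy : ∀ y : E, ∑ q, (a q * g q y) • Φ q = 0 := by
        intro y
        refine LinearMap.ext fun v => ?_
        have h0 := LinearMap.congr_fun ha ((y : A)⁻¹ • v)
        simp only [LinearMap.sum_apply, LinearMap.smul_apply, LinearMap.zero_apply] at h0 ⊢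
        have h1 := congrArg (fun x : V => (y : A) • x) h0
        simp only [smul_zero, Finset.smul_sum] at h1
        rw [← h1]
        refine Finset.sum_congr rfl fun q _ => ?_
        show ((a q : AddMonoid.End V) * endo A V ((y : A) * q.out * (y : A)⁻¹ * (q.out : A)⁻¹)) ((q.out : A) • v) =
          (endo A V (y : A) * (a q : AddMonoid.End V)) ((q.out : A) • (y : A)⁻¹ • v)
        rw [commute_of_mem_scalars (f := endo A V (y : A)) (fun u hu => by
          rw [← map_mul, ← map_mul, Subgroup.mem_centralizer_iff.1 (hEC y.2) u hu]) (a q).2]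
        show (a q : AddMonoid.End V) (((y : A) * q.out * (y : A)⁻¹ * (q.out : A)⁻¹) • (q.out : A) • v) =
          (a q : AddMonoid.End V) ((y : A) • (q.out : A) • (y : A)⁻¹ • v)
        rw [← mul_smul, ← mul_smul, ← mul_smul]
        congr 2
        group
      by_contra hne
      obtain ⟨v, hv⟩ := F.nt
      have hΦ0 : Φ q₀ ≠ 0 := fun e => by
        have : (q₀.out : A) • v = 0 := LinearMap.congr_fun e v
        rw [← smul_zero ((q₀.out : A)), smul_left_cancel_iff] at this
        exact hv this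
      refine hΦ0 ((Module.forall_dual_apply_eq_zero_iff K (Φ q₀)).1 fun φ => ?_)
      have h1 : ∑ q, (a q * φ (Φ q)) • (g q : E → K) = 0 := by
        funext y
        rw [Finset.sum_apply, Pi.zero_apply]
        have h2 := congrArg φ (hy y)
        rw [map_sum, map_zero] at h2
        rw [← h2]
        refine Finset.sum_congr rfl fun q _ => ?_
        rw [map_smul, Pi.smul_apply, smul_eq_mul, smul_eq_mul]
        ring
      exact (mul_eq_zero.1 (Fintype.linearIndependent_iff.1 hindep _ h1 q₀)).resolve_left hne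
    have := hΦ.fintype_card_le_finrank
    rw [Module.finrank_linearMap, ← Nat.card_eq_fintype_card] at this
    exact hidx.trans_le this
  · haveI : Fintype W := Fintype.ofFinite _
    let Lm : (W → K) →ₗ[K] (E → K) := LinearMap.funLeft K K (QuotientGroup.mk : E → W)
    let gW : L ⧸ U' → W → K := fun q w => g q w.out
    have hfac : ∀ q, Lm (gW q) = (g q : E → K) := fun q => by
      funext y
      obtain ⟨u, hu⟩ := QuotientGroup.mk_out_eq_mul (U.subgroupOf E) y
      show g q (y : W).out = g q y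
      rw [show (y : W).out = y * u from hu, map_mul]
      have hu1 : g q u = 1 := by
        refine Subtype.ext ?_
        show endo A V ((u : A) * (q.out : A) * (u : A)⁻¹ * (q.out : A)⁻¹) = 1
        rw [Subgroup.mem_centralizer_iff.1 (hLC q.out.2) (u : A) u.2, mul_inv_cancel_right, mul_inv_cancel,
          map_one]
      rw [hu1, mul_one]
    have hW : LinearIndependent K gW := LinearIndependent.of_comp Lm (by
      rw [show Lm ∘ gW = fun q => (g q : E → K) from funext hfac]; exact hindep)
    have := hW.fintype_card_le_finrank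
    rw [Module.finrank_fintype_fun_eq_card, ← Nat.card_eq_fintype_card, ← Nat.card_eq_fintype_card] at this
    exact hidx.trans_le this

/-- An element of `U` fixing a nonzero vector is trivial. -/
theorem eq_one_of_fix {u : A} (hu : u ∈ U) {v : V} (hv : v ≠ 0) (h : u • v = v) : u = 1 := by
  by_contra hne
  have h0 : endo A V u - 1 ≠ 0 := fun e => hne (F.endo_inj (by rw [map_one]; exact sub_eq_zero.1 e))
  obtain ⟨s, hs, e⟩ := F.inv _ (sub_mem (endo_mem_scalars hu) (one_mem _)) h0
  refine hv ?_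
  have h2 : (s * (endo A V u - 1)) v = v := by
    rw [← scalars_comm F.comm (sub_mem (endo_mem_scalars hu) (one_mem _)) hs, e]
    rfl
  rw [← h2]
  show s (u • v - v) = 0
  rw [h, sub_self, map_zero]

/-- Two elements with commutator in `U` that fix a common nonzero vector commute. -/
theorem commute_of_fix {x y : A} (hxy : x * y * x⁻¹ * y⁻¹ ∈ U) {v : V} (hv : v ≠ 0) (hx : x • v = v)
    (hy : y • v = v) : x * y = y * x := by
  have h1 : x⁻¹ • v = v := by rw [inv_smul_eq_iff, hx]
  have h2 : y⁻¹ • v = v := by rw [inv_smul_eq_iff, hy]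
  have h := eq_one_of_fix F hxy hv (by rw [mul_smul, mul_smul, mul_smul, h2, h1, hy, hx])
  rwa [mul_inv_eq_one, mul_inv_eq_iff_eq_mul] at h

end Scalar

/-- The layer and the action on it. -/
theorem exists_fieldLayer (hsolv : Group.IsSolvable A) {U : Subgroup A} (F : FieldCase A V U)
    (hmax : ∀ W : Subgroup A, W.Normal → U ≤ W → (∀ x ∈ W, ∀ y ∈ W, x * y = y * x) → W = U)
    {p : ℕ} [Fact p.Prime] (hexp : ∀ v : V, p • v = 0) {k : Type*} [Field k] [Finite k] [Module k V]
    (hk : ∀ c : k, ∃ f ∈ scalars V U, ∀ v : V, f v = c • v)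
    (hkc : ∀ (a : A) (c : k) (v : V), a • c • v = c • a • v) :
    ∃ (a d e : ℕ) (E : Subgroup A), 1 ≤ a ∧ 1 ≤ d ∧ Nat.card V = Nat.card k ^ (a * d) ∧ 1 ≤ e ∧ e ≤ d ∧
      Nat.card U ∣ Nat.card k ^ a - 1 ∧ (Subgroup.centralizer (U : Set A)).index ≤ a ∧
      (∀ r : ℕ, r.Prime → r ∣ e → r ∣ Nat.card U) ∧
      E.Normal ∧ U ≤ E ∧ E ≤ Subgroup.centralizer (U : Set A) ∧
      (∀ x ∈ E, ∀ y ∈ E, x * y * x⁻¹ * y⁻¹ ∈ U) ∧ U.relIndex E = e * e ∧
      ∃ (W : Type u) (_ : CommGroup W) (_ : Finite W) (μ : Type u) (_ : CommGroup μ) (_ : Finite μ)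
        (_ : IsCyclic μ) (β : W → W → μ) (act : A →* MulAut W),
        IsPairing β ∧ Nat.card W = e * e ∧
        (∀ (c : A) (x y : W), β x y = 1 → β (act c x) (act c y) = 1) ∧
        (∀ c ∈ Subgroup.centralizer (U : Set A), ∀ x y : W, β (act c x) (act c y) = β x y) ∧
        (∀ X : Subgroup W, (∀ c : A, ∀ x ∈ X, act c x ∈ X) → (∀ x ∈ X, ∀ y ∈ X, β x y = 1) → X = ⊥) ∧
        (∀ c ∈ Subgroup.centralizer (U : Set A), (act c = 1 ↔ c ∈ E)) ∧
        (∀ q : ℕ, q.Prime → ∀ w : W, w ^ (q * q) = 1 → w ^ q = 1) := by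
  classical
  haveI hUn := F.normal
  haveI := hsolv
  obtain ⟨a, d, ha, hd, hV, hU, hidx, hind⟩ := Scalar.field_params F hexp hk hkc
  obtain ⟨E, hEn, hUE, hEC, hcomm, hsqf, hcent⟩ := CfsgLib.ClassPSq.exists_layer hsolv F.normal F.comm hmax
  haveI := hEn
  set C := Subgroup.centralizer (U : Set A) with hC
  have hEU : ∀ e ∈ E, ∀ x ∈ U, e * x = x * e := fun e he x hx =>
    (Subgroup.mem_centralizer_iff.1 (hEC he) x hx).symm
  have hcentE : ∀ c ∈ C, (∀ y ∈ E, y * c = c * y) → c ∈ U := fun c hc h => by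
    rw [← hcent]; exact ⟨hc, Subgroup.mem_centralizer_iff.2 h⟩
  set U' := U.subgroupOf E with hU'
  haveI : U'.Normal := Subgroup.normal_subgroupOf
  let W := ↥E ⧸ U'
  have hWc : ∀ x y : W, x * y = y * x := by
    intro x y
    obtain ⟨x, rfl⟩ := QuotientGroup.mk_surjective x
    obtain ⟨y, rfl⟩ := QuotientGroup.mk_surjective y
    have h : ((x * y * x⁻¹ * y⁻¹ : E) : W) = 1 := (QuotientGroup.eq_one_iff _).2 (hcomm x x.2 y y.2)
    rwa [QuotientGroup.mk_mul, QuotientGroup.mk_mul, QuotientGroup.mk_mul, QuotientGroup.mk_inv,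
      QuotientGroup.mk_inv, mul_inv_eq_one, mul_inv_eq_iff_eq_mul] at h
  letI : CommGroup W := { (inferInstance : Group W) with mul_comm := hWc }
  letI : CommGroup U := { (inferInstance : Group U) with
    mul_comm := fun x y => Subtype.ext (F.comm _ x.2 _ y.2) }
  haveI : IsCyclic U := F.cyclic
  let β : W → W → U := fun x y =>
    ⟨(x.out : A) * y.out * (x.out : A)⁻¹ * (y.out : A)⁻¹, hcomm _ x.out.2 _ y.out.2⟩
  -- the commutator depends only on the cosets
  have hwell : ∀ x y : E, ((β (x : W) (y : W) : U) : A) = (x : A) * y * (x : A)⁻¹ * (y : A)⁻¹ := by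
    intro x y
    obtain ⟨u, hu⟩ := QuotientGroup.mk_out_eq_mul U' x
    obtain ⟨v, hv⟩ := QuotientGroup.mk_out_eq_mul U' y
    show ((x : W).out : A) * (y : W).out * ((x : W).out : A)⁻¹ * ((y : W).out : A)⁻¹ = _
    rw [show (x : W).out = x * u from hu, show (y : W).out = y * v from hv]
    push_cast
    have h1 : ∀ e : E, Commute ((u : E) : A) (e : A) := fun e => (hEU e e.2 _ u.2).symm
    have h2 : ∀ e : E, Commute ((v : E) : A) (e : A) := fun e => (hEU e e.2 _ v.2).symm
    calc (x : A) * ((u : E) : A) * ((y : A) * ((v : E) : A)) * ((x : A) * ((u : E) : A))⁻¹ *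
          ((y : A) * ((v : E) : A))⁻¹
        = (x : A) * (((u : E) : A) * ((y : A) * ((v : E) : A)) * ((u : E) : A)⁻¹) * (x : A)⁻¹ *
          ((v : E) : A)⁻¹ * (y : A)⁻¹ := by group
      _ = (x : A) * ((y : A) * ((v : E) : A)) * (x : A)⁻¹ * ((v : E) : A)⁻¹ * (y : A)⁻¹ := by
          rw [← Subgroup.coe_mul, (h1 (y * (v : E))).eq, mul_inv_cancel_right, Subgroup.coe_mul]
      _ = (x : A) * (y : A) * (((v : E) : A) * (x : A)⁻¹ * ((v : E) : A)⁻¹) * (y : A)⁻¹ := by group
      _ = _ := by rw [← Subgroup.coe_inv, (h2 x⁻¹).eq, mul_inv_cancel_right]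
  have hβ : IsPairing β := by
    constructor
    · intro x y z
      obtain ⟨x, rfl⟩ := QuotientGroup.mk_surjective x
      obtain ⟨y, rfl⟩ := QuotientGroup.mk_surjective y
      obtain ⟨z, rfl⟩ := QuotientGroup.mk_surjective z
      refine Subtype.ext ?_
      rw [← QuotientGroup.mk_mul, Subgroup.coe_mul, hwell, hwell, hwell, Subgroup.coe_mul]
      have hz := hcomm y y.2 z z.2
      calc (x : A) * y * z * ((x : A) * y)⁻¹ * (z : A)⁻¹
          = (x : A) * ((y : A) * z * (y : A)⁻¹ * (z : A)⁻¹) * ((z : A) * (x : A)⁻¹ * (z : A)⁻¹) := by group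
        _ = ((y : A) * z * (y : A)⁻¹ * (z : A)⁻¹) * ((x : A) * z * (x : A)⁻¹ * (z : A)⁻¹) := by
          rw [hEU x x.2 _ hz]; group
        _ = _ := F.comm _ hz _ (hcomm x x.2 z z.2)
    · intro x y z
      obtain ⟨x, rfl⟩ := QuotientGroup.mk_surjective x
      obtain ⟨y, rfl⟩ := QuotientGroup.mk_surjective y
      obtain ⟨z, rfl⟩ := QuotientGroup.mk_surjective z
      refine Subtype.ext ?_
      rw [← QuotientGroup.mk_mul, Subgroup.coe_mul, hwell, hwell, hwell, Subgroup.coe_mul]
      have hz := hcomm x x.2 z z.2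
      calc (x : A) * ((y : A) * z) * (x : A)⁻¹ * ((y : A) * z)⁻¹
          = ((x : A) * y * (x : A)⁻¹) * ((x : A) * z * (x : A)⁻¹ * (z : A)⁻¹) * (y : A)⁻¹ := by group
        _ = ((x : A) * y * (x : A)⁻¹) * ((y : A)⁻¹ * ((x : A) * z * (x : A)⁻¹ * (z : A)⁻¹)) := by
          rw [hEU _ (inv_mem y.2) _ hz]; group
        _ = _ := by group
    · intro x
      obtain ⟨x, rfl⟩ := QuotientGroup.mk_surjective x
      exact Subtype.ext (by rw [hwell, Subgroup.coe_one]; group)
    · intro x h
      obtain ⟨x, rfl⟩ := QuotientGroup.mk_surjective x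
      refine (QuotientGroup.eq_one_iff x).2 (hcentE _ (hEC x.2) fun y hy => ?_)
      have := congrArg Subtype.val (h ((⟨y, hy⟩ : E) : W))
      rw [hwell, Subgroup.coe_one, mul_inv_eq_one, mul_inv_eq_iff_eq_mul] at this
      exact this.symm
  obtain ⟨e, he⟩ := hβ.exists_sq
  have hWidx : U.relIndex E = e * e := he
  have he1 : 1 ≤ e := by
    rcases Nat.eq_zero_or_pos e with h | h
    · subst h; exact absurd he Nat.card_pos.ne'
    · exact h
  have hed : e ≤ d := Nat.mul_self_le_mul_self_iff.1 (hWidx ▸ (hind E E hUE hEC hEC hUE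
    (fun c hc y hy => hcomm y hy c hc) (fun c hc h => hcentE c (hEC hc) h)).1)
  have hrU : ∀ r : ℕ, r.Prime → r ∣ e → r ∣ Nat.card U := by
    intro r hr hre
    have : Fact r.Prime := ⟨hr⟩
    obtain ⟨w, hw⟩ := exists_prime_orderOf_dvd_card' (G := W) r (by rw [he]; exact hre.mul_right e)
    obtain ⟨w', hw'⟩ : ∃ w', β w w' ≠ 1 := by
      by_contra h
      push Not at h
      rw [hβ.nondeg w h, orderOf_one] at hw
      exact hr.one_lt.ne hw
    rw [← orderOf_eq_prime (show β w w' ^ r = 1 by
      rw [← hβ.pow_left, ← hw, pow_orderOf_eq_one, hβ.one_left]) hw']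
    exact orderOf_dvd_natCard _
  -- the action
  let act : A →* MulAut W :=
    { toFun := fun c => QuotientGroup.congr U' U' (MulAut.conjNormal c) (by
        ext x
        refine ⟨?_, fun hx => ⟨(MulAut.conjNormal c).symm x, ?_, MulEquiv.apply_symm_apply _ x⟩⟩
        · rintro ⟨y, hy, rfl⟩
          exact F.normal.conj_mem _ hy c
        · show (((MulAut.conjNormal c).symm x : E) : A) ∈ U
          rw [MulAut.conjNormal_symm_apply]
          simpa using F.normal.conj_mem _ hx c⁻¹)
      map_one' := MulEquiv.ext fun w => by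
        obtain ⟨w, rfl⟩ := QuotientGroup.mk_surjective w
        simp
      map_mul' := fun c c' => MulEquiv.ext fun w => by
        obtain ⟨w, rfl⟩ := QuotientGroup.mk_surjective w
        simp [map_mul] }
  have hactap : ∀ (c : A) (x : E), act c (x : W) = ((MulAut.conjNormal c x : E) : W) := fun c x => rfl
  have hconj : ∀ (c : A) (x y : E), ((β (act c (x : W)) (act c (y : W)) : U) : A) =
      c * ((x : A) * y * (x : A)⁻¹ * (y : A)⁻¹) * c⁻¹ := fun c x y => by
    rw [hactap, hactap, hwell, MulAut.conjNormal_apply, MulAut.conjNormal_apply]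
    group
  refine ⟨a, d, e, E, ha, hd, hV, he1, hed, hU, hidx, hrU, hEn, hUE, hEC, hcomm, hWidx, W, inferInstance,
    inferInstance, U, inferInstance, inferInstance, inferInstance, β, act, hβ, he, ?_, ?_, ?_, ?_, ?_⟩
  · intro c x y h
    obtain ⟨x, rfl⟩ := QuotientGroup.mk_surjective x
    obtain ⟨y, rfl⟩ := QuotientGroup.mk_surjective y
    refine Subtype.ext ?_
    rw [hconj, ← hwell, h, Subgroup.coe_one, mul_one, mul_inv_cancel]
  · intro c hc x y
    obtain ⟨x, rfl⟩ := QuotientGroup.mk_surjective x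
    obtain ⟨y, rfl⟩ := QuotientGroup.mk_surjective y
    refine Subtype.ext ?_
    rw [hconj, hwell, ← Subgroup.mem_centralizer_iff.1 hc _ (hcomm x x.2 y y.2), mul_inv_cancel_right]
  · intro X hX hiso
    let Xt : Subgroup A := (X.comap (QuotientGroup.mk' U')).map E.subtype
    have hXn : Xt.Normal := ⟨by
      rintro _ ⟨y, hy, rfl⟩ g
      exact ⟨MulAut.conjNormal g y, hX g _ hy, MulAut.conjNormal_apply g y⟩⟩
    have hUX : U ≤ Xt := fun u hu => ⟨⟨u, hUE hu⟩, by
      show ((⟨u, hUE hu⟩ : E) : W) ∈ X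
      rw [(QuotientGroup.eq_one_iff _).2 (show (⟨u, hUE hu⟩ : E) ∈ U' from hu)]
      exact one_mem X, rfl⟩
    have heq := hmax Xt hXn hUX (by
      rintro _ ⟨x, hx, rfl⟩ _ ⟨y, hy, rfl⟩
      have h := congrArg Subtype.val (hiso _ hx _ hy)
      rw [QuotientGroup.mk'_apply, QuotientGroup.mk'_apply, hwell, Subgroup.coe_one, mul_inv_eq_one,
        mul_inv_eq_iff_eq_mul] at h
      exact h)
    rw [eq_bot_iff]
    intro w hw
    obtain ⟨y, rfl⟩ := QuotientGroup.mk_surjective w
    rw [Subgroup.mem_bot, QuotientGroup.eq_one_iff, hU', Subgroup.mem_subgroupOf, ← heq]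
    exact ⟨y, hw, rfl⟩
  · intro c hc
    refine ⟨fun h => ?_, fun hcE => MulEquiv.ext fun w => ?_⟩
    · -- the kernel is `E`
      let L : Subgroup A :=
        { carrier := {c | c ∈ C ∧ ∀ y ∈ E, y * c * y⁻¹ * c⁻¹ ∈ U}
          one_mem' := ⟨one_mem _, fun y hy => by simp⟩
          mul_mem' := fun {c c'} hc hc' => ⟨mul_mem hc.1 hc'.1, fun y hy => by
            rw [show y * (c * c') * y⁻¹ * (c * c')⁻¹ =
              (y * c * y⁻¹ * c⁻¹) * (c * (y * c' * y⁻¹ * c'⁻¹) * c⁻¹) by group]
            exact mul_mem (hc.2 y hy) (F.normal.conj_mem _ (hc'.2 y hy) c)⟩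
          inv_mem' := fun {c} hc => ⟨inv_mem hc.1, fun y hy => by
            rw [show y * c⁻¹ * y⁻¹ * c⁻¹⁻¹ = c⁻¹ * (y * c * y⁻¹ * c⁻¹)⁻¹ * c⁻¹⁻¹ by group]
            exact F.normal.conj_mem _ (inv_mem (hc.2 y hy)) c⁻¹⟩ }
      have hEL : E ≤ L := fun c hc => ⟨hEC hc, fun y hy => hcomm y hy c hc⟩
      have hL := (hind L E (hUE.trans hEL) (fun c hc => hc.1) hEC hUE (fun c hc => hc.2)
        (fun c hc h => hcentE c hc.1 h)).2
      have h1 : E.relIndex L = 1 := by
        have h2 := Subgroup.relIndex_mul_relIndex U E L hUE hEL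
        have h3 : U.relIndex E ≠ 0 := Subgroup.index_ne_zero_of_finite
        have h4 : E.relIndex L ≠ 0 := Subgroup.index_ne_zero_of_finite
        rw [← h2] at hL
        nlinarith [Nat.pos_of_ne_zero h3, Nat.pos_of_ne_zero h4]
      refine Subgroup.relIndex_eq_one.1 h1 ⟨hc, fun y hy => ?_⟩
      have h2 := DFunLike.congr_fun h ((⟨y, hy⟩ : E) : W)
      rw [hactap, MulAut.one_apply, QuotientGroup.eq, hU', Subgroup.mem_subgroupOf] at h2
      push_cast at h2
      rw [MulAut.conjNormal_apply] at h2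
      have := F.normal.conj_mem _ h2 y
      rwa [show y * ((c * y * c⁻¹)⁻¹ * y) * y⁻¹ = y * c * y⁻¹ * c⁻¹ by group] at this
    · obtain ⟨w, rfl⟩ := QuotientGroup.mk_surjective w
      rw [hactap, MulAut.one_apply, QuotientGroup.eq, hU', Subgroup.mem_subgroupOf]
      push_cast
      rw [MulAut.conjNormal_apply]
      have := F.normal.conj_mem _ (hcomm w w.2 c hcE) (w : A)⁻¹
      rwa [show (w : A)⁻¹ * ((w : A) * c * (w : A)⁻¹ * c⁻¹) * (w : A)⁻¹⁻¹ =
        (c * w * c⁻¹)⁻¹ * w by group] at this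
  · intro q hq w hw
    obtain ⟨x, rfl⟩ := QuotientGroup.mk_surjective w
    rw [← QuotientGroup.mk_pow, QuotientGroup.eq_one_iff, hU', Subgroup.mem_subgroupOf, Subgroup.coe_pow] at hw ⊢
    exact hsqf q hq x x.2 hw

end CfsgLib.ClassLin
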