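import Cfsg.Agent.Lib.BlockA.CoreBlock
import Cfsg.Agent.Lib.BlockA.FongReynolds
import Cfsg.Agent.Lib.BlockB.GoodClasses
import Cfsg.Agent.Lib.Block.Fong
import Cfsg.Agent.Lib.Block.PSolvable
import Cfsg.Agent.Lib.PLength.DerivedBound
import Cfsg.Agent.Lib.Invol.FrattiniKernel
import Cfsg.Agent.Lib.StructC.BurnsideBasis
import Cfsg.Agent.S4201

/-!
The number of characters in a block of a solvable group: reduction to the coprime linear case.
-/

set_option autoImplicit false
set_option linter.unusedSectionVars false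
set_option maxHeartbeats 1000000

namespace CfsgLib.ClassLin

open Cfsg

universe u

/-- The bound on the class numbers of coprime solvable semidirect products. -/
def SemidirectBound (p : ℕ) : Prop :=
  ∀ (X : Type u) [Group X] [Finite X] (V : Subgroup X) [V.Normal],
    Group.IsSolvable X → (∀ v ∈ V, v ^ p = 1) → (∀ a ∈ V, ∀ b ∈ V, a * b = b * a) →
    ¬ p ∣ V.index → Subgroup.centralizer (V : Set X) = V → ∀ n : ℕ, Nat.card V = p ^ n →
    Nat.card (ConjClasses X) ≤ 3 ^ (n - 1) * p ^ n

theorem classes_le_natCard (H : Type*) [Group H] [Finite H] : Nat.card (ConjClasses H) ≤ Nat.card H :=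
  Nat.card_le_card_of_surjective _ ConjClasses.mk_surjective

theorem classes_le_of_equiv {A B : Type*} [Group A] [Group B] [Finite A] [Finite B] (e : A ≃* B) :
    Nat.card (ConjClasses A) ≤ Nat.card (ConjClasses B) :=
  Nat.card_le_card_of_surjective _ (ConjClasses.map_surjective (f := e.symm.toMonoidHom) e.symm.surjective)

theorem classes_le_ker_mul {A B : Type*} [Group A] [Group B] [Finite A] [Finite B] (f : A →* B)
    (hf : Function.Surjective f) :
    Nat.card (ConjClasses A) ≤ Nat.card (ConjClasses f.ker) * Nat.card (ConjClasses B) :=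
  (Cfsg.Agent.S4201.result f.ker).trans (Nat.mul_le_mul_left _
    (classes_le_of_equiv (QuotientGroup.quotientKerEquivOfSurjective f hf)))

theorem exp_le {p : ℕ} (hp : 0 < p) {d e : ℕ} (h : d ≤ e) :
    3 ^ (d - 1) * p ^ d ≤ 3 ^ (e - 1) * p ^ e :=
  Nat.mul_le_mul (Nat.pow_le_pow_right (by norm_num) (by omega)) (Nat.pow_le_pow_right hp h)

/-- The class number of a solvable group without normal `p'`-subgroups. -/
theorem classes_le_of_core_trivial {p : ℕ} [hp : Fact p.Prime] (hS : SemidirectBound.{u} p) (n : ℕ) :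
    ∀ (G : Type u) [Group G] [Finite G], Nat.card G ≤ n → Group.IsSolvable G → pPrimeCore p G = ⊥ →
    Nat.card (ConjClasses G) ≤
      3 ^ ((Nat.card G).factorization p - 1) * p ^ (Nat.card G).factorization p := by
  classical
  induction n with
  | zero =>
    intro G _ _ h
    exact absurd h (Nat.not_le.2 Nat.card_pos)
  | succ n ih =>
    intro G _ _ hn hsol hcore
    have := hsol
    rcases Nat.eq_zero_or_pos ((Nat.card G).factorization p) with hd | hd
    · have hcop : (Nat.card (⊤ : Subgroup G)).Coprime p := by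
        rw [Subgroup.card_top]
        refine ((Nat.Prime.coprime_iff_not_dvd hp.out).2 fun h => ?_).symm
        have := hp.out.factorization_pos_of_dvd Nat.card_pos.ne' h
        omega
      have h1 : (⊤ : Subgroup G) ≤ ⊥ := hcore ▸ CfsgLib.Solvable.le_pPrimeCore inferInstance hcop
      have h2 : Nat.card G = 1 := by
        rw [← Subgroup.card_top, le_bot_iff.1 h1, Subgroup.card_bot]
      rw [hd]
      have := classes_le_natCard G
      simpa [h2] using this
    -- the core and its Frattini subgroup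
    set P := pCore p G with hPdef
    have hPn : P.Normal := CfsgLib.Solvable.pCore_normal p G
    have hPp : IsPGroup p P := CfsgLib.Solvable.pCore_isPGroup p
    have hC : Subgroup.centralizer (P : Set G) ≤ P :=
      CfsgLib.Block.centralizer_pCore_le_of_isPSolvable
        (CfsgLib.PLength.isPSolvable_of_isSolvable (p := p) _ G le_rfl hsol).choose_spec.isPSolvable
        hcore
    have hPne : P ≠ ⊥ := fun e => by
      rw [e] at hC
      have h1 : (⊤ : Subgroup G) ≤ ⊥ := fun x _ => hC (Subgroup.mem_centralizer_iff.2 (by simp))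
      have h2 : Nat.card G = 1 := by
        rw [← Subgroup.card_top, le_bot_iff.1 h1, Subgroup.card_bot]
      simp [h2] at hd
    set Φ := (frattini P).map P.subtype with hΦdef
    have hΦn : Φ.Normal := inferInstance
    have hΦP : Φ ≤ P := Subgroup.map_subtype_le _
    set π := QuotientGroup.mk' Φ with hπ
    have hπs : Function.Surjective π := QuotientGroup.mk'_surjective Φ
    set V := P.map π with hVdef
    have hVn : V.Normal := hPn.map π hπs
    have hexp : ∀ v ∈ V, v ^ p = 1 := by
      rintro _ ⟨x, hx, rfl⟩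
      rw [← map_pow]
      exact (QuotientGroup.eq_one_iff _).2
        ⟨_, CfsgLib.StructC.pow_mem_frattini hPp ⟨x, hx⟩, rfl⟩
    have hcomm : ∀ a ∈ V, ∀ b ∈ V, a * b = b * a := by
      rintro _ ⟨x, hx, rfl⟩ _ ⟨y, hy, rfl⟩
      have h : π (x⁻¹ * y⁻¹ * x * y) = 1 := (QuotientGroup.eq_one_iff _).2
        ⟨_, CfsgLib.StructC.comm_mem_frattini hPp ⟨x, hx⟩ ⟨y, hy⟩, rfl⟩
      simp only [map_mul, map_inv] at h
      calc π x * π y = π y * π x * ((π x)⁻¹ * (π y)⁻¹ * π x * π y) := by group
        _ = π y * π x := by rw [h, mul_one]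
    have hself : Subgroup.centralizer (V : Set (G ⧸ Φ)) = V := by
      refine le_antisymm ?_ fun a ha => Subgroup.mem_centralizer_iff.2 fun b hb => hcomm b hb a ha
      intro a ha
      obtain ⟨g, rfl⟩ := hπs a
      let φ : G →* MulAut P := MulAut.conjNormal
      set C := (CfsgLib.Invol.FrattiniKernel.frattiniKer P).comap φ with hCdef
      have hCp : IsPGroup p C := by
        refine (CfsgLib.Invol.FrattiniKernel.isPGroup_frattiniKer hPp).comap_of_ker_isPGroup φ (hPp.to_le ?_)
        intro x hx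
        refine hC (Subgroup.mem_centralizer_iff.2 fun q hq => ?_)
        have := congrArg Subtype.val (DFunLike.congr_fun (MonoidHom.mem_ker.1 hx) ⟨q, hq⟩)
        rw [MulAut.conjNormal_apply, MulAut.one_apply] at this
        exact (mul_inv_eq_iff_eq_mul.1 this).symm
      have hgC : g ∈ C := by
        intro u
        have h1 := Subgroup.mem_centralizer_iff.1 ha _ ⟨u, u.2, rfl⟩
        have h2 : π ((u : G)⁻¹ * (g * u * g⁻¹)) = 1 := by
          simp only [map_mul, map_inv]
          rw [← h1]; group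
        obtain ⟨w, hw, hwe⟩ := (QuotientGroup.eq_one_iff _).1 h2
        have : u⁻¹ * φ g u = w := Subtype.ext (by
          rw [Subgroup.coe_mul, Subgroup.coe_inv, MulAut.conjNormal_apply]; exact hwe.symm)
        rw [this]; exact hw
      exact ⟨g, CfsgLib.Solvable.le_pCore inferInstance hCp hgC, rfl⟩
    have hVp : IsPGroup p V := hPp.map π
    obtain ⟨b, hb⟩ := IsPGroup.iff_card.1 hVp
    have hb1 : 1 ≤ b := by
      by_contra hb0
      rw [Nat.lt_one_iff.1 (not_le.1 hb0), pow_zero, Subgroup.card_eq_one,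
        Subgroup.map_eq_bot_iff, hπ, QuotientGroup.ker_mk'] at hb
      have hft : frattini P = ⊤ := by
        refine top_le_iff.1 fun u _ => ?_
        obtain ⟨w, hw, hwe⟩ := hb u.2
        rwa [← (Subtype.ext hwe : w = u)]
      have hbt : (⊥ : Subgroup P) = ⊤ := frattini_nongenerating (by rw [hft, bot_sup_eq])
      refine hPne ((Subgroup.eq_bot_iff_forall _).2 fun x hx => ?_)
      have hxb : (⟨x, hx⟩ : P) ∈ (⊥ : Subgroup P) := by rw [hbt]; exact Subgroup.mem_top _
      exact congrArg Subtype.val (Subgroup.mem_bot.1 hxb)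
    obtain ⟨a, ha⟩ := IsPGroup.iff_card.1 (hPp.to_le hΦP)
    -- the layer
    set ρ := QuotientGroup.mk' V with hρ
    set O := pPrimeCore p ((G ⧸ Φ) ⧸ V) with hOdef
    have hOn : O.Normal := CfsgLib.Solvable.pPrimeCore_normal p _
    let f : G ⧸ Φ →* ((G ⧸ Φ) ⧸ V) ⧸ O := (QuotientGroup.mk' O).comp ρ
    have hfs : Function.Surjective f :=
      (QuotientGroup.mk'_surjective O).comp (QuotientGroup.mk'_surjective V)
    have hN : f.ker = O.comap ρ := by
      show ((QuotientGroup.mk' O).comp ρ).ker = _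
      rw [← MonoidHom.comap_ker, QuotientGroup.ker_mk']
    have hVN : V ≤ f.ker := by
      rw [hN]; intro v hv
      rw [Subgroup.mem_comap, hρ, QuotientGroup.mk'_apply, (QuotientGroup.eq_one_iff v).2 hv]
      exact one_mem _
    have hrel : V.relIndex f.ker = Nat.card O := by
      have h1 : f.ker.map ρ = O := by
        rw [hN]; exact Subgroup.map_comap_eq_self_of_surjective (QuotientGroup.mk'_surjective V) _
      conv_rhs => rw [← h1]
      rw [← Subgroup.relIndex_bot_left, ← Subgroup.relIndex_comap, MonoidHom.comap_bot, hρ,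
        QuotientGroup.ker_mk']
    have hOp : ¬ p ∣ Nat.card O := (Nat.Prime.coprime_iff_not_dvd hp.out).1
      (CfsgLib.Solvable.pPrimeCore_coprime (G := (G ⧸ Φ) ⧸ V) p).symm
    have : Group.IsSolvable (G ⧸ Φ) := Group.isSolvable_of_surjective hπs
    have hVV : Nat.card (V.subgroupOf f.ker) = p ^ b :=
      (Nat.card_congr (Subgroup.subgroupOfEquivOfLe hVN).toEquiv).trans hb
    have hlayer : Nat.card (ConjClasses f.ker) ≤ 3 ^ (b - 1) * p ^ b := by
      refine hS f.ker (V.subgroupOf f.ker) inferInstance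
        (fun v hv => Subtype.ext (by simpa using hexp _ (Subgroup.mem_subgroupOf.1 hv)))
        (fun x hx y hy => Subtype.ext
          (hcomm _ (Subgroup.mem_subgroupOf.1 hx) _ (Subgroup.mem_subgroupOf.1 hy)))
        (by show ¬ p ∣ V.relIndex f.ker; rwa [hrel]) ?_ b hVV
      ext x
      rw [Subgroup.mem_subgroupOf]
      rw [← SetLike.ext_iff.1 hself, Subgroup.mem_centralizer_iff, Subgroup.mem_centralizer_iff]
      exact ⟨fun h v hv => congrArg Subtype.val (h ⟨v, hVN hv⟩ hv),
        fun h v hv => Subtype.ext (h _ hv)⟩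
    -- the upper quotient
    set Y := ((G ⧸ Φ) ⧸ V) ⧸ O with hY
    have hYcore : pPrimeCore p Y = ⊥ := CfsgLib.Solvable.pPrimeCore_quotient_eq_bot p
    have : Group.IsSolvable Y := Group.isSolvable_of_surjective hfs
    have hcG : Nat.card G = p ^ a * Nat.card (G ⧸ Φ) := by
      rw [← ha, Φ.card_eq_card_quotient_mul_card_subgroup, mul_comm]
    have hcX : Nat.card (G ⧸ Φ) = p ^ b * Nat.card O * Nat.card Y := by
      rw [f.ker.card_eq_card_quotient_mul_card_subgroup,
        Nat.card_congr (QuotientGroup.quotientKerEquivOfSurjective f hfs).toEquiv,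
        ← (V.subgroupOf f.ker).card_mul_index, hVV,
        show (V.subgroupOf f.ker).index = Nat.card O from hrel, mul_comm]
    have hfact : (Nat.card G).factorization p = a + b + (Nat.card Y).factorization p := by
      have hp0 : ∀ i : ℕ, p ^ i ≠ 0 := fun i => pow_ne_zero _ hp.out.ne_zero
      have hO0 : Nat.card O ≠ 0 := Nat.card_pos.ne'
      rw [hcG, hcX, Nat.factorization_mul (hp0 a)
          (mul_ne_zero (mul_ne_zero (hp0 b) hO0) Nat.card_pos.ne'),
        Nat.factorization_mul (mul_ne_zero (hp0 b) hO0) Nat.card_pos.ne',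
        Nat.factorization_mul (hp0 b) hO0]
      simp only [Finsupp.add_apply]
      rw [Nat.factorization_eq_zero_of_not_dvd hOp, Nat.Prime.factorization_pow hp.out,
        Nat.Prime.factorization_pow hp.out, Finsupp.single_eq_same, Finsupp.single_eq_same,
        add_zero, add_assoc]
    have hYn : Nat.card Y ≤ n := by
      have h2 : 2 ≤ p ^ b := hp.out.two_le.trans (Nat.le_self_pow (by omega) p)
      have h3 : 1 ≤ Nat.card O := Nat.card_pos
      have h4 : 1 ≤ p ^ a := Nat.one_le_pow _ _ hp.out.pos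
      have h5 : 0 < Nat.card Y := Nat.card_pos
      have h6 : 2 * Nat.card Y ≤ Nat.card G := by
        rw [hcG, hcX]
        calc 2 * Nat.card Y = 1 * (2 * 1 * Nat.card Y) := by ring
          _ ≤ p ^ a * (p ^ b * Nat.card O * Nat.card Y) :=
            Nat.mul_le_mul h4 (Nat.mul_le_mul_right _ (Nat.mul_le_mul h2 h3))
      omega
    set m := (Nat.card Y).factorization p with hm
    have hkY := ih Y hYn inferInstance hYcore
    rw [← hm] at hkY
    calc Nat.card (ConjClasses G)
        ≤ Nat.card (ConjClasses Φ) * Nat.card (ConjClasses (G ⧸ Φ)) := Cfsg.Agent.S4201.result Φ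
      _ ≤ p ^ a * (3 ^ (b - 1) * p ^ b * (3 ^ (m - 1) * p ^ m)) :=
          Nat.mul_le_mul (ha ▸ classes_le_natCard Φ)
            ((classes_le_ker_mul f hfs).trans (Nat.mul_le_mul hlayer hkY))
      _ = 3 ^ ((b - 1) + (m - 1)) * p ^ (a + b + m) := by ring
      _ ≤ 3 ^ ((Nat.card G).factorization p - 1) * p ^ (Nat.card G).factorization p := by
          rw [hfact]
          exact Nat.mul_le_mul_right _ (Nat.pow_le_pow_right (by norm_num) (by omega))

section Block

open CfsgLib.Block CfsgLib.BlockA MonoidAlgebra CfsgLib.Clifford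

/-- The characters over an invariant character are at most as many as the classes of the quotient. -/
theorem over_le_classes {U : Type u} [Group U] [Fintype U] (K : Subgroup U) [K.Normal] [Fintype K]
    {θ : K → ℂ} (hθ : Cfsg.IsIrrCharacter K θ) (hinv : ∀ t, conjFn t θ = θ) :
    Nat.card (CfsgLib.BlockB.McKay.Over (fun k : K => (k : U)) θ) ≤
      Nat.card (ConjClasses (U ⧸ K)) := by
  classical
  have h := CfsgLib.BlockB.McKay.card_pairs K hθ hinv
  let F : {q : U × U // CfsgLib.BlockB.McKay.Good K θ q.1 ∧ q.2 * q.1 * q.2⁻¹ * q.1⁻¹ ∈ K} →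
      {r : (U ⧸ K) × (U ⧸ K) // Commute r.1 r.2} × K × K := fun q =>
    (⟨((q.1.1 : U ⧸ K), (q.1.2 : U ⧸ K)), by
        have h1 := (QuotientGroup.eq_one_iff _).2 q.2.2
        simp only [QuotientGroup.mk_mul, QuotientGroup.mk_inv] at h1
        exact (mul_inv_eq_iff_eq_mul.1 (mul_inv_eq_one.1 h1)).symm⟩,
      ⟨(q.1.1 : U ⧸ K).out⁻¹ * q.1.1, QuotientGroup.eq.1 (QuotientGroup.out_eq' _)⟩,
      ⟨(q.1.2 : U ⧸ K).out⁻¹ * q.1.2, QuotientGroup.eq.1 (QuotientGroup.out_eq' _)⟩)
  have hF : Function.Injective F := by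
    rintro ⟨⟨a, b⟩, _⟩ ⟨⟨a', b'⟩, _⟩ e
    have e1 := congrArg (fun z => z.1.1.1) e
    have e2 := congrArg (fun z => z.1.1.2) e
    have e3 := congrArg (fun z => (z.2.1 : U)) e
    have e4 := congrArg (fun z => (z.2.2 : U)) e
    simp only [F] at e1 e2 e3 e4
    rw [e1] at e3
    rw [e2] at e4
    exact Subtype.ext (Prod.ext (mul_left_cancel e3) (mul_left_cancel e4))
  have h1 := Nat.card_le_card_of_injective F hF
  rw [Nat.card_prod, Nat.card_prod, card_comm_eq_card_conjClasses_mul_card, h] at h1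
  refine Nat.le_of_mul_le_mul_left (h1.trans (le_of_eq ?_))
    (Nat.mul_pos (Nat.card_pos (α := K)) (Nat.card_pos (α := U)))
  rw [K.card_eq_card_quotient_mul_card_subgroup]
  ring

variable {G : Type u} [Group G] [Fintype G] {M : Ideal AlgInt} [M.IsPrime] {p : ℕ} [hp : Fact p.Prime]

/-- The stable case: one block over `θ`. -/
theorem fongBlock_le_of_invariant (hS : SemidirectBound.{u} p) (hM : IsPModular p M) (hsol : Group.IsSolvable G)
    {K : Subgroup G} [hKn : K.Normal] [Fintype K] (hK : K = pPrimeCore p G)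
    {B : Set (IrrCharacter G)} (hB : IsPBlock M B) {θ : IrrCharacter K} (hinv : ∀ g : G, conjIrr K θ g = θ)
    {χ₀ : IrrCharacter G} (hχ₀ : χ₀ ∈ B)
    (hθ : classInner (fun k : K => (χ₀ : G → ℂ) k) (θ : K → ℂ) ≠ 0) :
    B.ncard ≤ 3 ^ (blockDefect p B - 1) * p ^ blockDefect p B := by
  classical
  have hKc : (Nat.card K).Coprime p := hK ▸ CfsgLib.Solvable.pPrimeCore_coprime (G := G) p
  have hKp : ¬ p ∣ Nat.card K := (Nat.Prime.coprime_iff_not_dvd hp.out).1 hKc.symm
  have hdisj : ∀ (P : Subgroup G), IsPGroup p P → ∀ v ∈ P, v ∈ K → v = 1 := by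
    intro P hP v hvP hvK
    obtain ⟨k, hk⟩ := IsPGroup.iff_orderOf.1 hP ⟨v, hvP⟩
    rw [Subgroup.orderOf_mk] at hk
    rcases k with _ | k
    · rw [pow_zero, orderOf_eq_one_iff] at hk; exact hk
    · exact absurd ((hk ▸ dvd_pow_self p (Nat.succ_ne_zero k) : p ∣ orderOf v).trans
        (Subgroup.orderOf_dvd_natCard K hvK)) hKp
  set π := QuotientGroup.mk' K with hπ
  have hsolQ : Group.IsSolvable (G ⧸ K) := Group.isSolvable_of_surjective (QuotientGroup.mk'_surjective K)
  have hcore : pPrimeCore p (G ⧸ K) = ⊥ := by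
    subst hK
    exact CfsgLib.Solvable.pPrimeCore_quotient_eq_bot p
  set Qb := pCore p (G ⧸ K) with hQb
  have hQbn : Qb.Normal := CfsgLib.Solvable.pCore_normal p _
  have hQbp : IsPGroup p Qb := CfsgLib.Solvable.pCore_isPGroup p
  have hC : Subgroup.centralizer (Qb : Set (G ⧸ K)) ≤ Qb :=
    CfsgLib.Block.centralizer_pCore_le_of_isPSolvable
      (CfsgLib.PLength.isPSolvable_of_isSolvable (p := p) _ (G ⧸ K) le_rfl
        hsolQ).choose_spec.isPSolvable hcore
  set L := Qb.comap π with hL
  have := Fintype.ofFinite L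
  have hKL : K ≤ L := fun k hk => by
    rw [hL, Subgroup.mem_comap, hπ, QuotientGroup.mk'_apply, (QuotientGroup.eq_one_iff k).2 hk]
    exact one_mem _
  have hrel : K.relIndex L = Nat.card Qb := by
    have h1 : L.map π = Qb :=
      Subgroup.map_comap_eq_self_of_surjective (QuotientGroup.mk'_surjective K) _
    conv_rhs => rw [← h1]
    rw [← Subgroup.relIndex_bot_left, ← Subgroup.relIndex_comap, MonoidHom.comap_bot, hπ,
      QuotientGroup.ker_mk']
  obtain ⟨a, ha⟩ := IsPGroup.iff_card.1 hQbp
  let Q₀ : Sylow p L := Classical.arbitrary _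
  set Q := (Q₀ : Subgroup L).map L.subtype with hQ
  have hQp : IsPGroup p Q := Q₀.2.map _
  have hQL : Q ≤ L := Subgroup.map_subtype_le _
  have hQmap : Q.map π = Qb := by
    refine Subgroup.eq_of_le_of_card_ge ((Subgroup.map_mono hQL).trans (Subgroup.map_comap_le _ _)) ?_
    have h1 : Nat.card (Q.map π) = Nat.card Q := (Nat.card_congr
      (Equiv.ofBijective (π.subgroupMap Q) ⟨by
        rw [injective_iff_map_eq_one]
        intro v hv
        exact Subtype.ext (hdisj Q hQp v v.2
          ((QuotientGroup.eq_one_iff _).1 (congrArg Subtype.val hv))),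
        π.subgroupMap_surjective Q⟩)).symm
    rw [h1, hQ, Subgroup.card_map_of_injective (Subgroup.subtype_injective L),
      Q₀.card_eq_multiplicity]
    refine le_of_eq ?_
    rw [ha]
    congr 1
    have h2 : Nat.card L = Nat.card K * p ^ a := by
      rw [← ha, ← hrel, ← Nat.card_congr (Subgroup.subgroupOfEquivOfLe hKL).toEquiv]
      exact ((K.subgroupOf L).card_mul_index).symm
    rw [h2, Nat.factorization_mul Nat.card_pos.ne' (pow_ne_zero _ hp.out.ne_zero), Finsupp.add_apply,
      Nat.factorization_eq_zero_of_not_dvd hKp, Nat.Prime.factorization_pow hp.out,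
      Finsupp.single_eq_same, zero_add]
  have hreg : ∀ x ∈ Subgroup.centralizer (Q : Set G), ¬ p ∣ orderOf x → x ∈ L := by
    intro x hx _
    exact hC (Subgroup.mem_centralizer_iff.2 fun q hq => by
      rw [SetLike.mem_coe, ← hQmap] at hq
      obtain ⟨v, hv, rfl⟩ := hq
      rw [← map_mul, ← map_mul, Subgroup.mem_centralizer_iff.1 hx v hv])
  have hbr : ∃ x : K, (x : G) ∈ Subgroup.centralizer (Q : Set G) ∧
      redC M (blockCoeff ({θ} : Set (IrrCharacter K)) x) ≠ 0 := by
    set C := Subgroup.centralizer (Q : Set G) with hCdef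
    have := Fintype.ofFinite (K.subgroupOf C)
    obtain ⟨β, s, hs, hβ⟩ := exists_glauberman_coeff hM hKp hQp θ (fun r _ => hinv r) (C := C) rfl
    obtain ⟨x, hx⟩ := exists_blockCoeff_ne_zero hM
      (isPBlock_singleton hM (fun h => hKp (h.trans
        ⟨K.relIndex C * 0 + Nat.card K / Nat.card (K.subgroupOf C), by
          rw [Nat.mul_zero, Nat.zero_add, Nat.mul_div_cancel']
          exact (Subgroup.card_comap_dvd_of_injective K C.subtype (Subgroup.subtype_injective C))⟩)) β)
    refine ⟨⟨((x : C) : G), x.2⟩, (x : C).2, ?_⟩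
    rw [hβ x]
    exact mul_ne_zero hs hx
  have hidx : ∃ k : ℕ, K.relIndex L = p ^ k := ⟨a, hrel.trans ha⟩
  have hone : ∀ χ : IrrCharacter G,
      classInner (fun k : K => (χ : G → ℂ) k) (θ : K → ℂ) ≠ 0 → χ ∈ B := fun χ hχ =>
    mem_of_sameBlock hB hχ₀ (sameBlock_of_core hM hKL hKp hidx θ hinv hQp hQL hbr hreg hθ hχ)
  have hover : ∀ χ ∈ B, classInner (fun k : K => (χ : G → ℂ) k) (θ : K → ℂ) ≠ 0 := fun χ hχ =>
    constituent_of_sameBlock_of_coprime hM hKp (sameBlock_of_mem hB hχ₀ hχ) hθ
  -- the defect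
  obtain ⟨D, hD⟩ := exists_isDefectGroup (p := p) hM hB
  obtain ⟨-, -, hdef⟩ := fong_covering hM (isPBlock_singleton hM hKp θ)
    (fun θ' hθ' g => by rw [Set.mem_singleton_iff.1 hθ', hinv]; rfl) hB
    ⟨χ₀, hχ₀, θ, rfl, hθ⟩ (fun B' hB' ⟨χ, hχ, θ', hθ', h⟩ => by
      rw [Set.mem_singleton_iff.1 hθ'] at h
      rw [isPBlock_eq_of_mem hB' hB hχ (hone χ h)]) hD
  have hd : (Nat.card (G ⧸ K)).factorization p ≤ blockDefect p B := by
    rw [hdef]; exact Nat.le_add_left _ _
  have : Finite (IrrCharacter G) := inferInstance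
  have hcount : B.ncard ≤ Nat.card (ConjClasses (G ⧸ K)) := by
    rw [← Nat.card_coe_set_eq]
    refine le_trans ?_ (over_le_classes K θ.2 fun t => congrArg Subtype.val (hinv t))
    exact Nat.card_le_card_of_injective (fun χ => ⟨χ.1, hover χ.1 χ.2⟩)
      fun x y e => Subtype.ext (by simpa using e)
  exact hcount.trans ((classes_le_of_core_trivial hS _ (G ⧸ K) le_rfl hsolQ hcore).trans
    (exp_le hp.out.pos hd))

/-- **Blocks of solvable groups.** -/
theorem fongBlock_le (hS : SemidirectBound.{u} p) (n : ℕ) : ∀ (G : Type u) [Group G] [Fintype G],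
    Nat.card G ≤ n → Group.IsSolvable G → ∀ (M : Ideal AlgInt) [M.IsPrime], IsPModular p M →
    ∀ B : Set (IrrCharacter G), IsPBlock M B →
      B.ncard ≤ 3 ^ (blockDefect p B - 1) * p ^ blockDefect p B := by
  classical
  induction n with
  | zero =>
    intro G _ _ h
    exact absurd h (Nat.not_le.2 Nat.card_pos)
  | succ n ih =>
    intro G _ _ hn hsol M _ hM B hB
    set K := pPrimeCore p G with hK
    have hKn : K.Normal := CfsgLib.Solvable.pPrimeCore_normal p G
    have := Fintype.ofFinite K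
    have hKp : ¬ p ∣ Nat.card K := (Nat.Prime.coprime_iff_not_dvd hp.out).1
      (CfsgLib.Solvable.pPrimeCore_coprime (G := G) p).symm
    obtain ⟨χ₀, hχ₀⟩ := isPBlock_nonempty hB
    obtain ⟨θ, hθ⟩ := exists_constituent_res (N := K) χ₀
    by_cases hinv : ∀ g : G, conjIrr K θ g = θ
    · exact fongBlock_le_of_invariant hS hM hsol hK hB hinv hχ₀ hθ
    let T : Subgroup G :=
      { carrier := {g | conjIrr K θ g = θ}
        one_mem' := conjIrr_one θ
        mul_mem' := fun {g h} (hg : conjIrr K θ g = θ) (hh : conjIrr K θ h = θ) => by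
          show conjIrr K θ (g * h) = θ
          rw [← conjIrr_conjIrr, hg, hh]
        inv_mem' := fun {g} (hg : conjIrr K θ g = θ) => by
          show conjIrr K θ g⁻¹ = θ
          conv_lhs => rw [← hg]
          rw [conjIrr_conjIrr, mul_inv_cancel, conjIrr_one] }
    have hT : ∀ g : G, g ∈ T ↔ ∀ θ' ∈ ({θ} : Set (IrrCharacter K)),
        conjIrr K θ' g ∈ ({θ} : Set (IrrCharacter K)) := fun g =>
      ⟨fun hg θ' h => by rw [Set.mem_singleton_iff.1 h]; exact hg,
        fun h => Set.mem_singleton_iff.1 (h θ rfl)⟩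
    have hKT : K ≤ T := fun k hk => by
      show conjIrr K θ k = θ
      refine Subtype.ext (funext fun m => ?_)
      rw [conjIrr_apply]
      exact CfsgLib.Char.irr_isClassFunction θ.2 m ⟨k, hk⟩
    have := Fintype.ofFinite T
    have hb := isPBlock_singleton hM hKp θ
    obtain ⟨B', hB', ⟨ψ₀, hψ₀, h₀⟩, hind⟩ :=
      stab_surjective hKT hM hb hT hB hχ₀ (Set.mem_singleton θ) hθ
    obtain ⟨A, hA, -, -, -, hAmem⟩ := exists_induced_stab hKT hM hb hT hB' hψ₀ h₀
    obtain rfl : A = B := isInducedBlock_unique T hA hind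
    have hcard : Nat.card T ≤ n := by
      have hne : T ≠ ⊤ := fun e => hinv fun g => (e ▸ Subgroup.mem_top g : g ∈ T)
      have := Subgroup.card_le_card_group T
      have h2 : Nat.card T ≠ Nat.card G := fun e => hne (Subgroup.eq_top_of_card_eq T e)
      omega
    have : Finite (IrrCharacter T) := inferInstance
    rw [blockDefect_stab hKT hM hb hT hB' hind hψ₀ h₀]
    refine le_trans ?_ (ih T hcard inferInstance M hM B' hB')
    let g : ↥A → ↥B' := fun χ => ⟨((hAmem χ.1).1 χ.2).choose, ((hAmem χ.1).1 χ.2).choose_spec.1⟩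
    have hg : Function.Injective g := fun x y e => by
      refine Subtype.ext (Subtype.ext ?_)
      rw [((hAmem x.1).1 x.2).choose_spec.2, ((hAmem y.1).1 y.2).choose_spec.2,
        show ((hAmem x.1).1 x.2).choose = ((hAmem y.1).1 y.2).choose from congrArg Subtype.val e]
    rw [← Nat.card_coe_set_eq, ← Nat.card_coe_set_eq]
    exact Nat.card_le_card_of_injective g hg

end Block

end CfsgLib.ClassLin
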