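import Cfsg.Agent.Lib.ClassLin.Linear
import Mathlib.RingTheory.RootsOfUnity.Complex
import Mathlib.GroupTheory.FiniteAbelian.Duality

/-!
The layer: the numerical bound, homomorphisms into a cyclic group, and the case of sixteen vectors.
-/

set_option autoImplicit false
set_option linter.unusedSectionVars false
set_option linter.style.haveILetI false
set_option maxHeartbeats 1000000

namespace CfsgLib.ClassLin

open Subgroup
open CfsgLib.BaseTwo (Irr FieldCase scalars)
open CfsgLib.ClassPSq (Bd maxPrime exists_max_abelian pow_le_three_pow_mono)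

universe u

theorem bd_prime_pow_le {q : ℕ} (hq : q.Prime) : ∀ d : ℕ, Bd (q ^ d) ≤ (q ^ d) ^ (2 * d + 1)
  | 0 => by
    rw [pow_zero, CfsgLib.ClassPSq.Bd_small.2.1]
    simp
  | d + 1 => by
    have h1 : 1 < q ^ (d + 1) := Nat.one_lt_pow (by omega) hq.one_lt
    have hm : maxPrime (q ^ (d + 1)) = q := by
      rw [maxPrime, Nat.primeFactors_prime_pow (by omega) hq, Finset.sup_singleton]
      rfl
    rw [Bd, dif_pos h1, hm, pow_succ q d, Nat.mul_div_cancel _ hq.pos]
    have h2 : q ^ d * q * (q ^ d * q) / q = q ^ d * q * q ^ d := by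
      rw [show q ^ d * q * (q ^ d * q) = q ^ d * q * q ^ d * q by ring, Nat.mul_div_cancel _ hq.pos]
    rw [h2]
    calc (q ^ d * q * (q ^ d * q) - 1) * (q ^ d * q * q ^ d) * Bd (q ^ d)
        ≤ (q ^ d * q * (q ^ d * q)) * (q ^ d * q * q ^ d) * (q ^ d) ^ (2 * d + 1) :=
          Nat.mul_le_mul (Nat.mul_le_mul_right _ (Nat.sub_le _ _)) (bd_prime_pow_le hq d)
      _ = _ := by
          rw [← pow_succ q d, ← pow_mul, ← pow_mul, ← pow_add, ← pow_add, ← pow_add, ← pow_add]
          congr 1
          ring

theorem three_pow_two_pow : ∀ d : ℕ, 6 ≤ d → 3 * (2 ^ d) ^ (2 * d + 1) ≤ 3 ^ 2 ^ d := by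
  intro d hd
  induction d, hd using Nat.le_induction with
  | base => norm_num
  | succ d hd ih =>
    have h := Nat.mul_le_mul ih ih
    rw [← pow_add, ← two_mul, ← pow_succ'] at h
    refine le_trans ?_ h
    rw [← pow_mul, ← pow_mul]
    calc 3 * 2 ^ ((d + 1) * (2 * (d + 1) + 1)) ≤ 9 * 2 ^ (2 * (d * (2 * d + 1))) := by
          refine Nat.mul_le_mul (by norm_num) (Nat.pow_le_pow_right two_pos ?_)
          nlinarith
      _ = _ := by ring

/-- The isometry bound is small outside eight cases. -/
theorem bd_le_three_pow {q d : ℕ} (hq : q.Prime) (hd : 1 ≤ d) (h2 : q = 2 → 6 ≤ d) (h3 : q = 3 → 3 ≤ d)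
    (h5 : q = 5 → 2 ≤ d) : Bd (q ^ d) ≤ 3 ^ (q ^ d - 1) := by
  have hn : 1 ≤ q ^ d := Nat.one_le_pow _ _ hq.pos
  suffices 3 * (q ^ d) ^ (2 * d + 1) ≤ 3 ^ q ^ d by
    have h := (bd_prime_pow_le hq d)
    rw [← Nat.sub_add_cancel hn, pow_succ' 3 (q ^ d - 1), Nat.sub_add_cancel hn] at this
    exact h.trans (Nat.le_of_mul_le_mul_left this (by norm_num))
  have hq2 := hq.two_le
  rcases lt_or_ge d 6 with hd6 | hd6
  · have hq3 : 3 ≤ q := by
      by_contra h
      have := h2 (by omega)
      omega
    have hq4 : q ≠ 4 := fun e => by rw [e] at hq; norm_num at hq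
    interval_cases d
    · have h7 : 7 ≤ q := by
        by_contra h
        have : q ≠ 6 := fun e => by rw [e] at hq; norm_num at hq
        by_cases h3' : q = 3
        · have := h3 h3'; omega
        · have := h5 (by omega); omega
      exact pow_le_three_pow_mono (n₀ := 7) (by norm_num) (by norm_num) _ (by simpa using h7)
    · have h25 : 25 ≤ q ^ 2 := by
        have : q ≠ 3 := fun e => by have := h3 e; omega
        calc 25 = 5 ^ 2 := rfl
          _ ≤ q ^ 2 := Nat.pow_le_pow_left (by omega) 2
      exact pow_le_three_pow_mono (n₀ := 25) (by norm_num) (by norm_num) _ h25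
    · exact pow_le_three_pow_mono (n₀ := 27) (by norm_num) (by norm_num) _
        ((show 27 = 3 ^ 3 from rfl).trans_le (Nat.pow_le_pow_left hq3 3))
    · exact pow_le_three_pow_mono (n₀ := 81) (by norm_num) (by norm_num) _
        ((show 81 = 3 ^ 4 from rfl).trans_le (Nat.pow_le_pow_left hq3 4))
    · exact pow_le_three_pow_mono (n₀ := 243) (by norm_num) (by norm_num) _
        ((show 243 = 3 ^ 5 from rfl).trans_le (Nat.pow_le_pow_left hq3 5))
  · have hb : ∀ d : ℕ, 6 ≤ d → 3 * (2 * d + 1) ≤ 2 * 2 ^ d := by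
      intro d hd
      induction d, hd using Nat.le_induction with
      | base => norm_num
      | succ d hd ih => rw [pow_succ]; omega
    exact pow_le_three_pow_mono (three_pow_two_pow d hd6) (hb d hd6) _ (Nat.pow_le_pow_left hq2 d)

/-- There are no more homomorphisms into a cyclic group than elements. -/
theorem card_hom_le {X μ : Type u} [CommGroup X] [Finite X] [CommGroup μ] [Finite μ] [IsCyclic μ] :
    Finite (X →* μ) ∧ Nat.card (X →* μ) ≤ Nat.card X := by
  have hfin : Finite (X →* μ) := Finite.of_injective (fun f => (f : X → μ)) DFunLike.coe_injective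
  haveI : NeZero (Nat.card μ) := ⟨Nat.card_pos.ne'⟩
  have hc : Nat.card μ = Nat.card (rootsOfUnity (Nat.card μ) ℂ) := by
    rw [Complex.card_rootsOfUnity]
  let e : μ ≃* rootsOfUnity (Nat.card μ) ℂ := mulEquivOfCyclicCardEq hc
  let j : μ →* ℂˣ := (rootsOfUnity (Nat.card μ) ℂ).subtype.comp e.toMonoidHom
  haveI : NeZero (Monoid.exponent X : ℂ) := ⟨Nat.cast_ne_zero.2 Monoid.exponent_ne_zero_of_finite⟩
  have h := CommGroup.card_monoidHom_of_hasEnoughRootsOfUnity X ℂ
  haveI : Finite (X →* ℂˣ) := Nat.finite_of_card_ne_zero (h ▸ Nat.card_pos.ne')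
  refine ⟨hfin, (Nat.card_le_card_of_injective (fun f : X →* μ => j.comp f) fun f g hfg => ?_).trans_eq h⟩
  refine MonoidHom.ext fun x => ?_
  have := DFunLike.congr_fun hfg x
  exact e.injective (Subtype.ext this)

/-- A self-centralising subgroup of order fifteen and index at most four. -/
theorem classes_fifteen {T : Type u} [Group T] [Finite T] (U : Subgroup T) (hU : Nat.card U = 15)
    (hi : U.index ≤ 4) (hc : centralizer (U : Set T) ≤ U) : Nat.card (ConjClasses T) ≤ 25 := by
  classical
  have := Fintype.ofFinite T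
  set i := U.index with hidef
  have hT : Nat.card T = 15 * i := by rw [← U.card_mul_index, hU]
  by_cases hi1 : i = 1
  · exact classes_le_card.trans (by omega)
  have hi0 : i ≠ 0 := index_ne_zero_of_finite
  have hfive : ∀ K : Subgroup T, ¬ U ≤ K → Nat.card (U ⊓ K : Subgroup T) ≤ 5 := fun K hK => by
    have hd : Nat.card (U ⊓ K : Subgroup T) ∣ 15 := hU ▸ Subgroup.card_dvd_of_le inf_le_left
    have hne : Nat.card (U ⊓ K : Subgroup T) ≠ 15 := fun h => hK fun x hx => by
      have := Subgroup.eq_of_le_of_card_ge (inf_le_left : U ⊓ K ≤ U) (by omega)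
      rw [← this] at hx
      exact hx.2
    have := Nat.le_of_dvd (by norm_num) hd
    interval_cases h : Nat.card (U ⊓ K : Subgroup T) <;> omega
  have hcen : Nat.card (U ⊓ center T : Subgroup T) ≤ 5 := hfive _ fun h => by
    have : centralizer (U : Set T) = ⊤ := eq_top_iff.2 fun g _ => mem_centralizer_iff.2 fun x hx =>
      (mem_center_iff.1 (h hx) g).symm
    rw [this, top_le_iff] at hc
    exact hi1 (hidef.trans (index_eq_one.2 hc))
  have hsum := CfsgLib.ClassPSq.sum_card_centralizer (G := T)
  have hb : ∀ x : T, 2 * Nat.card (centralizer ({x} : Set T)) ≤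
      (if x ∈ U ⊓ center T then Nat.card T else 0) + ((if x ∈ U then 5 * i else 0) + 10 * i) := fun x => by
    set K := centralizer ({x} : Set T)
    by_cases h1 : x ∈ U ⊓ center T
    · rw [if_pos h1, if_pos (show x ∈ U from h1.1), hT]
      have := K.card_le_card_group
      omega
    rw [if_neg h1]
    by_cases h2 : x ∈ U
    · rw [if_pos h2]
      have hne : K.index ≠ 1 := fun e => h1 ⟨h2, mem_center_iff.2 fun g =>
        mem_centralizer_singleton_iff.1 ((index_eq_one.1 e).ge (mem_top g))⟩
      have h0 : K.index ≠ 0 := index_ne_zero_of_finite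
      have := K.card_mul_index
      rw [hT] at this
      have h2' : Nat.card K * 2 ≤ Nat.card K * K.index := Nat.mul_le_mul_left _ (by omega)
      omega
    · rw [if_neg h2]
      have hnot : ¬ U ≤ K := fun h => h2 (hc (mem_centralizer_iff.2 fun y hy =>
        mem_centralizer_singleton_iff.1 (h hy)))
      have h5 := hfive K hnot
      have h4 : U.relIndex K ≤ i := (U.relIndex_le_of_le_right (le_top : K ≤ ⊤)
        (by rw [relIndex_top_right]; exact index_ne_zero_of_finite)).trans_eq U.relIndex_top_right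
      rw [← (U.subgroupOf K).card_mul_index, show (U.subgroupOf K).index = U.relIndex K from rfl,
        Nat.card_congr (show U.subgroupOf K ≃ (U ⊓ K : Subgroup T) from
          ⟨fun z => ⟨z.1, z.2, z.1.2⟩, fun z => ⟨⟨z.1, z.2.2⟩, z.2.1⟩, fun _ => rfl, fun _ => rfl⟩)]
      have := Nat.mul_le_mul h5 h4
      omega
  have h := Finset.sum_le_sum (s := Finset.univ) fun x _ => hb x
  rw [← Finset.mul_sum, hsum, Finset.sum_add_distrib, Finset.sum_add_distrib, ← Finset.sum_filter,
    ← Finset.sum_filter, Finset.sum_const, Finset.sum_const, Finset.sum_const, ← Fintype.card_subtype,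
    ← Fintype.card_subtype, ← Nat.card_eq_fintype_card, ← Nat.card_eq_fintype_card, Finset.card_univ,
    ← Nat.card_eq_fintype_card, smul_eq_mul, smul_eq_mul, smul_eq_mul] at h
  change _ ≤ Nat.card (U ⊓ center T : Subgroup T) * Nat.card T +
    (Nat.card U * (5 * i) + Nat.card T * (10 * i)) at h
  rw [hT, hU] at h
  have h' := h.trans (Nat.add_le_add_right (Nat.mul_le_mul_right _ hcen) _)
  by_contra hlt
  push Not at hlt
  have h26 := Nat.mul_le_mul_left 2 (Nat.mul_le_mul_right (15 * i) hlt)
  interval_cases i <;> omega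

/-- Solvable irreducible groups on sixteen vectors. -/
theorem kb_two_four {A V : Type u} [Group A] [Finite A] [AddCommGroup V] [Finite V] [DistribMulAction A V]
    (L : LinGrp A V 2 4) : KB A 27 := by
  classical
  haveI : Fact (Nat.Prime 2) := ⟨Nat.prime_two⟩
  letI : Module (ZMod 2) V := AddCommGroup.zmodModule L.exp
  have hk : KScal (ZMod 2) A V := KScal.prime
  obtain ⟨U, hU, hUc, hmax⟩ := exists_max_abelian (A := A)
  by_cases hall : ∀ s ∈ scalars V U, s ≠ 0 → ∃ s' ∈ scalars V U, s * s' = 1
  swap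
  · obtain ⟨H, _, _, W, _, _, _, _, t, π, ψ, ht, hHs, hHf, hHi, -, -, -, hcard, hexp, hψ, -, hτ, -, -⟩ :=
      exists_blocks L.sol L.faith L.irr hk hU hUc hall
    have hW1 : Nat.card W ^ t = 2 ^ 4 := hcard.trans L.card
    obtain ⟨m₀, -, hm₀⟩ := (Nat.dvd_prime_pow Fact.out).1 (hW1 ▸ dvd_pow_self (Nat.card W) (by omega))
    have htm : t * m₀ = 4 := Nat.pow_right_injective le_rfl (by
      show 2 ^ (t * m₀) = 2 ^ 4
      rw [mul_comm, pow_mul, ← hm₀, hW1])
    obtain ⟨htd, rfl⟩ := mul_eq_cases htm (by norm_num)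
    rw [show (4 : ℕ).divisors = {1, 2, 4} by decide] at htd
    simp only [Finset.mem_insert, Finset.mem_singleton] at htd
    rcases htd with rfl | rfl | rfl
    · omega
    · have hH := (kb_of_card_four hHf (by rw [hm₀]; norm_num)).1
      exact (KB.of_hom π.rangeRestrict (((MonoidHom.ker_rangeRestrict π).symm ▸
        (hH.pi 2).of_injective ψ hψ : KB π.rangeRestrict.ker (3 ^ 2)))
        (KB.of_card_le hτ)).mono (by norm_num [Nat.factorial])
    · have hH : KB H 1 := KB.of_card_le (linBd_two_one H W ⟨hHs, hHf, hHi, hexp 2 L.exp, hm₀, le_rfl⟩)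
      exact (KB.of_hom π.rangeRestrict (((MonoidHom.ker_rangeRestrict π).symm ▸
        (hH.pi 4).of_injective ψ hψ : KB π.rangeRestrict.ker (1 ^ 4)))
        (KB.of_card_le hτ)).mono (by norm_num [Nat.factorial])
  obtain ⟨v, hv⟩ : ∃ v : V, v ≠ 0 := by
    by_contra hn
    push Not at hn
    have : Subsingleton V := ⟨fun x y => (hn x).trans (hn y).symm⟩
    have h1 := Nat.card_of_subsingleton (0 : V)
    rw [L.card] at h1
    norm_num at h1
  have F : FieldCase A V U := ⟨⟨v, hv⟩, hU, hUc, hall, L.faith⟩
  have hkU : ∀ c : ZMod 2, ∃ f ∈ scalars V U, ∀ v : V, f v = c • v := fun c => by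
    obtain ⟨n, rfl⟩ := ZMod.natCast_zmod_surjective c
    refine ⟨(n : AddMonoid.End V), natCast_mem _ n, fun v => ?_⟩
    rw [AddMonoid.End.natCast_apply, Nat.cast_smul_eq_nsmul]
  obtain ⟨a, d, e, E, ha, hd, hV, he, hed, hUd, hidx, hrU, hEn, hUE, hEC, -, hUEi, W, _, _, μ, _, _, _, β,
      act, hβ, hW, -, hiso, -, hker, -⟩ :=
    exists_fieldLayer L.sol F hmax L.exp hkU (fun a c v => hk.comm a c v)
  rw [Nat.card_zmod] at hV hUd
  have had : a * d = 4 := Nat.pow_right_injective le_rfl (hV.symm.trans L.card)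
  by_cases ha4 : a = 4
  swap
  · obtain ⟨b1, b2, b3, b4, b5⟩ := bd_small'
    refine KB.of_card_le ?_
    set C := centralizer (U : Set A) with hC
    haveI : Finite (MulAut W) := Finite.of_injective (fun φ : MulAut W => (φ : W → W)) DFunLike.coe_injective
    let g := act.comp C.subtype
    have hgk : g.ker = E.subgroupOf C := by
      ext c
      rw [MonoidHom.mem_ker, mem_subgroupOf]
      exact hker c c.2
    have hgc : E.relIndex C = Nat.card g.range := by
      rw [← index_ker, hgk]; rfl
    have hS : Nat.card g.range ≤ Bd e := hβ.card_le g.range.subtype Subtype.val_injective (by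
      rintro ⟨_, c, rfl⟩ x y
      exact hiso c c.2 x y) hW
    have hUC : U ≤ C := hUE.trans hEC
    have hA : Nat.card A = Nat.card U * (e * e * Nat.card g.range) * C.index := by
      rw [← hgc, ← hUEi, relIndex_mul_relIndex U E C hUE hEC, Subgroup.relIndex,
        ← Nat.card_congr (subgroupOfEquivOfLe hUC).toEquiv, card_mul_index, card_mul_index]
    have hr : ∀ r : ℕ, r.Prime → r ∣ e → r ∣ 2 ^ a - 1 := fun r hr hre => (hrU r hr hre).trans hUd
    have hUle : Nat.card U ≤ 2 ^ a - 1 := Nat.le_of_dvd (by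
      have := Nat.one_lt_pow (n := a) (by omega) (by norm_num : 1 < 2)
      omega) hUd
    have hA' := hA.trans_le (Nat.mul_le_mul (Nat.mul_le_mul hUle (Nat.mul_le_mul_left _ hS)) hidx)
    obtain ⟨had', rfl⟩ := mul_eq_cases had (by norm_num)
    rw [show (4 : ℕ).divisors = {1, 2, 4} by decide] at had'
    simp only [Finset.mem_insert, Finset.mem_singleton] at had'
    rcases had' with rfl | rfl | rfl
    · obtain rfl := eq_one_of_prime hr rfl
      norm_num [b1] at hA' ⊢
      omega
    · norm_num at hed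
      rcases small_e he (by omega) hr with rfl | ⟨rfl, h⟩ | ⟨rfl, h⟩ | ⟨rfl, h⟩ | ⟨rfl, h⟩
      all_goals simp only [b1, b2, b3, b4, b5] at hA'
      all_goals norm_num at *
      all_goals omega
    · exact absurd rfl ha4
  subst ha4
  obtain rfl : e = 1 := by omega
  -- the centraliser of `U` is `U`
  have hEU : E ≤ U := relIndex_eq_one.1 (by rw [hUEi])
  have hCU : centralizer (U : Set A) ≤ U := fun c hc => hEU ((hker c hc).1 (by
    have : Subsingleton W := Finite.card_le_one_iff_subsingleton.1 (by rw [hW])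
    exact MulEquiv.ext fun w => Subsingleton.elim _ _))
  have hCeq : centralizer (U : Set A) = U := le_antisymm hCU (hUE.trans hEC)
  rw [hCeq] at hidx
  have hA := U.card_mul_index
  norm_num at hUd
  by_cases h15 : Nat.card U = 15
  swap
  · refine KB.of_card_le ?_
    have : Nat.card U ≤ 5 := by
      have := Nat.le_of_dvd (by norm_num) hUd
      interval_cases h : Nat.card U <;> omega
    rw [← hA]
    exact (Nat.mul_le_mul this hidx).trans (by norm_num)
  intro H
  have hA60 : Nat.card A ≤ 60 := by rw [← hA, h15]; omega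
  by_cases hH : H = ⊤
  · subst hH
    rw [classes_congr (Subgroup.topEquiv (G := A))]
    exact (classes_fifteen U h15 hidx hCU).trans (by norm_num)
  have h1 : H.index ≠ 1 := fun e => hH (index_eq_one.1 e)
  have h0 : H.index ≠ 0 := index_ne_zero_of_finite
  have hHA := H.card_mul_index
  have h30 : Nat.card H ≤ 30 := by nlinarith [show 2 ≤ H.index by omega]
  by_cases hc : ∀ x y : H, x * y = y * x
  · refine classes_le_card.trans (by_contra fun hlt => ?_)
    push Not at hlt
    -- an abelian subgroup of index two contains `U`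
    have hi2 : H.index = 2 := by nlinarith [show 2 ≤ H.index by omega]
    haveI : H.Normal := normal_of_index_eq_two hi2
    have hUH : U ≤ H := by
      have hd := Subgroup.relIndex_dvd_card H U
      have hd2 := H.relIndex_dvd_index_of_normal U
      rw [h15] at hd
      rw [hi2] at hd2
      have := Nat.dvd_gcd hd hd2
      rw [show Nat.gcd 15 2 = 1 from rfl, Nat.dvd_one] at this
      exact relIndex_eq_one.1 this
    have hHU : H ≤ U := fun x hx => hCU (mem_centralizer_iff.2 fun y hy =>
      congrArg Subtype.val (hc ⟨y, hUH hy⟩ ⟨x, hx⟩))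
    have := (Nat.le_of_dvd Nat.card_pos (card_dvd_of_le hHU))
    omega
  · push Not at hc
    have := classes_five_eighths hc
    omega

end CfsgLib.ClassLin
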