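import Cfsg.Agent.Lib.ClassLin.Basic
import Cfsg.Agent.Lib.ClassNumberPSq.PairingBasic
import Mathlib.LinearAlgebra.Matrix.SpecialLinearGroup
import Mathlib.LinearAlgebra.Matrix.ToLin

/-!
The smallest cases: three points, and pairings on the plane over a prime field.
-/

set_option autoImplicit false
set_option linter.unusedSectionVars false
set_option linter.style.haveILetI false
set_option maxRecDepth 100000
set_option maxHeartbeats 1000000

namespace CfsgLib.ClassLin

open Subgroup
open CfsgLib.ClassPSq (IsPairing)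
open scoped MatrixGroups Matrix

universe u

theorem kb_perm_three : KB (Equiv.Perm (Fin 3)) 3 := fun H => by
  have h6 : Nat.card (Equiv.Perm (Fin 3)) = 6 := by rw [Nat.card_perm, Nat.card_fin]; rfl
  by_cases hH : H = ⊤
  · subst hH
    rw [classes_congr (Subgroup.topEquiv (G := Equiv.Perm (Fin 3)))]
    have h := card_comm_eq_card_conjClasses_mul_card (Equiv.Perm (Fin 3))
    rw [h6] at h
    have hc : Fintype.card { p : Equiv.Perm (Fin 3) × Equiv.Perm (Fin 3) // p.1 * p.2 = p.2 * p.1 } = 18 := by
      decide +kernel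
    rw [← Nat.card_eq_fintype_card] at hc
    have h' : Nat.card { p : Equiv.Perm (Fin 3) × Equiv.Perm (Fin 3) // p.1 * p.2 = p.2 * p.1 } =
        Nat.card (ConjClasses (Equiv.Perm (Fin 3))) * 6 := h
    omega
  · refine classes_le_card.trans ?_
    have h1 : H.index ≠ 1 := fun e => hH (index_eq_one.1 e)
    have h0 : H.index ≠ 0 := index_ne_zero_of_finite
    have h2 := H.card_mul_index
    rw [h6] at h2
    nlinarith [show 2 ≤ H.index by omega, Nat.card_pos (α := H)]

/-- A group faithful on a group of order four. -/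
theorem kb_of_card_four {A V : Type u} [Group A] [Finite A] [AddCommGroup V] [Finite V] [DistribMulAction A V]
    (hf : ∀ a : A, (∀ v : V, a • v = v) → a = 1) (h4 : Nat.card V = 4) :
    KB A 3 ∧ Nat.card A ≤ 6 := by
  classical
  have : Fintype V := Fintype.ofFinite V
  let T := {v : V // v ≠ 0}
  have hT : Nat.card T = 3 := by
    rw [Nat.card_eq_fintype_card, Fintype.card_subtype_compl, Fintype.card_subtype_eq,
      ← Nat.card_eq_fintype_card, h4]
  let e : T ≃ Fin 3 := Finite.equivFinOfCardEq hT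
  let f : A →* Equiv.Perm T := MonoidHom.mk' (fun a => (MulAction.toPerm a : Equiv.Perm V).subtypePerm
    (fun v => by simp [smul_eq_zero_iff_eq])) fun a b => Equiv.ext fun v => Subtype.ext (mul_smul a b (v : V))
  have hfi : Function.Injective f := (injective_iff_map_eq_one f).2 fun a ha => hf a fun v => by
    by_cases hv : v = 0
    · rw [hv, smul_zero]
    · exact congrArg Subtype.val (Equiv.ext_iff.1 ha ⟨v, hv⟩)
  let g := e.permCongrHom.toMonoidHom.comp f
  have hgi : Function.Injective g := e.permCongrHom.injective.comp hfi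
  refine ⟨kb_perm_three.of_injective g hgi, (Nat.card_le_card_of_injective g hgi).trans ?_⟩
  rw [Nat.card_perm, Nat.card_fin]
  rfl

theorem kb_sl_three : KB SL(2, ZMod 3) 9 := fun H => by
  have h24 : Nat.card SL(2, ZMod 3) = 24 := by
    rw [Nat.card_eq_fintype_card]
    decide +kernel
  by_cases hH : H = ⊤
  · subst hH
    rw [classes_congr (Subgroup.topEquiv (G := SL(2, ZMod 3)))]
    have h := card_comm_eq_card_conjClasses_mul_card (SL(2, ZMod 3))
    rw [h24] at h
    have hc : Fintype.card { p : SL(2, ZMod 3) × SL(2, ZMod 3) // p.1 * p.2 = p.2 * p.1 } = 168 := by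
      decide +kernel
    rw [← Nat.card_eq_fintype_card] at hc
    have h' : Nat.card { p : SL(2, ZMod 3) × SL(2, ZMod 3) // p.1 * p.2 = p.2 * p.1 } =
        Nat.card (ConjClasses SL(2, ZMod 3)) * 24 := h
    omega
  have h1 : H.index ≠ 1 := fun e => hH (index_eq_one.1 e)
  have h0 : H.index ≠ 0 := index_ne_zero_of_finite
  have h2 := H.card_mul_index
  rw [h24] at h2
  have h12 : Nat.card H ≤ 12 := by nlinarith [show 2 ≤ H.index by omega, Nat.card_pos (α := H)]
  by_cases hc : ∀ a b : H, a * b = b * a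
  · refine classes_le_card.trans (by_contra fun hlt => ?_)
    push Not at hlt
    have hkey : ∀ g : SL(2, ZMod 3), g = 1 ∨ g = -1 ∨
        Fintype.card {x : SL(2, ZMod 3) // g * x = x * g} ≤ 6 := by decide +kernel
    obtain ⟨g, hg, hg1, hg2⟩ : ∃ g ∈ H, g ≠ 1 ∧ g ≠ -1 := by
      by_contra hn
      push Not at hn
      have hs : (H : Set SL(2, ZMod 3)) ⊆ {1, -1} := fun x hx => by
        by_cases h : x = 1
        · exact Or.inl h
        · exact Or.inr (hn x hx h)
      have h3 := Set.ncard_le_ncard hs (Set.toFinite _)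
      have h4 : ({1, -1} : Set SL(2, ZMod 3)).ncard ≤ 2 :=
        (Set.ncard_insert_le _ _).trans (by rw [Set.ncard_singleton])
      rw [← Nat.card_coe_set_eq] at h3
      change Nat.card H ≤ _ at h3
      omega
    have h6 := ((hkey g).resolve_left hg1).resolve_left hg2
    rw [← Nat.card_eq_fintype_card] at h6
    have : Nat.card H ≤ Nat.card {x : SL(2, ZMod 3) // g * x = x * g} :=
      Nat.card_le_card_of_injective (fun x => ⟨x, congrArg Subtype.val (hc ⟨g, hg⟩ x)⟩)
        fun x y e => Subtype.ext (congrArg (fun z => (z : {x // g * x = x * g}).1) e)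
    omega
  · push Not at hc
    have := classes_five_eighths hc
    omega

theorem kb_sl_five : KB SL(2, ZMod 5) 81 := by
  have h120 : Nat.card SL(2, ZMod 5) = 120 := by
    rw [Nat.card_eq_fintype_card]
    decide +kernel
  refine KB.of_five_eighths (by omega) fun h => absurd
    (h ⟨!![1, 1; 0, 1], by decide⟩ ⟨!![1, 0; 1, 1], by decide⟩) (by decide)

private theorem exists_sl_hom_aux {q : ℕ} (hq : q.Prime) {W μ : Type u} [CommGroup W] [Finite W] [CommGroup μ]
    {β : W → W → μ} (hβ : IsPairing β) [Module (ZMod q) (Additive W)] (hexp : ∀ w : W, w ^ q = 1) (hcard : Nat.card W = q * q)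
    (S : Subgroup (MulAut W)) (hS : ∀ s ∈ S, ∀ a b : W, β (s a) (s b) = β a b) :
    ∃ f : S →* SL(2, ZMod q), Function.Injective f := by
  classical
  haveI : NeZero q := ⟨hq.ne_zero⟩
  obtain ⟨x, hx⟩ : ∃ x : W, x ≠ 1 := by
    by_contra hn
    push Not at hn
    have : Subsingleton W := ⟨fun a b => (hn a).trans (hn b).symm⟩
    have h1 := Nat.card_of_subsingleton (1 : W)
    rw [h1] at hcard
    nlinarith [hq.two_le]
  obtain ⟨y, hy⟩ : ∃ y, β x y ≠ 1 := by
    by_contra hn
    push Not at hn
    exact hx (hβ.nondeg x hn)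
  set c := β x y with hc
  have hcq : orderOf c = q := orderOf_eq_prime (hp := ⟨hq⟩) (by rw [← hβ.pow_left, hexp, hβ.one_left]) hy
  have hsm : ∀ (n : ZMod q) (w : W), (n • Additive.ofMul w).toMul = w ^ n.val := fun n w => by
    conv_lhs => rw [← ZMod.natCast_zmod_val n]
    rw [Nat.cast_smul_eq_nsmul, ← ofMul_pow, toMul_ofMul]
  let L : (Fin 2 → ZMod q) →ₗ[ZMod q] Additive W :=
    Fintype.linearCombination (ZMod q) ![Additive.ofMul x, Additive.ofMul y]
  have hL : ∀ u : Fin 2 → ZMod q, Additive.toMul (L u) = x ^ (u 0).val * y ^ (u 1).val := fun u => by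
    rw [show L u = u 0 • Additive.ofMul x + u 1 • Additive.ofMul y by
      simp [L, Fintype.linearCombination_apply, Fin.sum_univ_two], toMul_add, hsm, hsm]
  have hcpow : ∀ a b : ℕ, c ^ a = c ^ b → (a : ZMod q) = b := fun a b h => by
    rw [pow_eq_pow_iff_modEq, hcq] at h
    exact (ZMod.natCast_eq_natCast_iff a b q).2 h
  have hinv : β y x = c⁻¹ := hβ.skew x y
  have hβL : ∀ u v : Fin 2 → ZMod q, β (Additive.toMul (L u)) (Additive.toMul (L v)) * c ^ ((u 1).val * (v 0).val) = c ^ ((u 0).val * (v 1).val) := by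
    intro u v
    rw [hL, hL, hβ.mul_left, hβ.mul_right, hβ.mul_right, hβ.pow_left, hβ.pow_left, hβ.pow_left, hβ.pow_left,
      hβ.pow_right, hβ.pow_right, hβ.pow_right, hβ.pow_right, hβ.alt, hβ.alt, hinv, one_pow, one_pow, one_pow,
      one_pow, one_mul, mul_one, ← hc, ← pow_mul, ← pow_mul, inv_pow, mul_assoc]
    rw [show (v 1).val * (u 0).val = (u 0).val * (v 1).val from Nat.mul_comm _ _,
      show (v 0).val * (u 1).val = (u 1).val * (v 0).val from Nat.mul_comm _ _, inv_mul_cancel, mul_one]
  have hLinj : Function.Injective L := by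
    refine (injective_iff_map_eq_zero L).2 fun u hu => ?_
    have e1 := hβL u ![0, 1]
    have e2 := hβL ![1, 0] u
    rw [hu, toMul_zero, hβ.one_left, one_mul] at e1
    rw [hu, toMul_zero, hβ.one_right, one_mul] at e2
    have a1 := hcpow _ _ e1
    have a2 := hcpow _ _ e2
    simp [ZMod.natCast_zmod_val] at a1 a2
    funext i
    fin_cases i
    · simpa using a1.symm
    · simpa using a2.symm
  have hLbij : Function.Bijective L := (Nat.bijective_iff_injective_and_card L).2 ⟨hLinj, by
    rw [Nat.card_fun, Nat.card_zmod, Nat.card_fin, sq]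
    exact hcard.symm⟩
  let e := LinearEquiv.ofBijective L hLbij
  let toLin : MulAut W → Additive W →ₗ[ZMod q] Additive W := fun s =>
    (MonoidHom.toAdditive s.toMonoidHom).toZModLinearMap q
  let M : MulAut W → Matrix (Fin 2) (Fin 2) (ZMod q) := fun s =>
    LinearMap.toMatrix' (e.symm.toLinearMap ∘ₗ toLin s ∘ₗ L)
  have hM : ∀ (s : MulAut W) (u : Fin 2 → ZMod q), L (M s *ᵥ u) = Additive.ofMul (s (L u).toMul) := by
    intro s u
    rw [LinearMap.toMatrix'_mulVec]
    show e (e.symm _) = _
    rw [LinearEquiv.apply_symm_apply]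
    rfl
  have hdet : ∀ s ∈ S, (M s).det = 1 := by
    intro s hs
    have h := hβL (M s *ᵥ ![1, 0]) (M s *ᵥ ![0, 1])
    rw [hM, hM, toMul_ofMul, toMul_ofMul, hS s hs] at h
    have h10 := hβL ![1, 0] ![0, 1]
    rw [show (![1, 0] : Fin 2 → ZMod q) 1 = 0 from rfl, show (![0, 1] : Fin 2 → ZMod q) 0 = 0 from rfl,
      ZMod.val_zero, zero_mul, pow_zero, mul_one] at h10
    rw [h10, ← pow_add] at h
    have h1 := hcpow _ _ h
    simp [ZMod.natCast_zmod_val, Matrix.mulVec, dotProduct, Fin.sum_univ_two] at h1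
    rw [Matrix.det_fin_two]
    linear_combination -h1
  let f : S →* SL(2, ZMod q) := MonoidHom.mk' (fun s => ⟨M s, hdet s s.2⟩) fun s t => Subtype.ext (by
    show M (s * t : MulAut W) = M s * M t
    refine Matrix.toLin'.injective (LinearMap.ext fun u => ?_)
    simp only [Matrix.toLin'_apply, ← Matrix.mulVec_mulVec]
    refine hLinj ?_
    rw [hM, hM, hM]
    rfl)
  refine ⟨f, fun s t h => Subtype.ext (MulEquiv.ext fun w => ?_)⟩
  have h1 : M s = M t := congrArg Subtype.val h
  obtain ⟨u, hu⟩ := hLbij.2 (Additive.ofMul w)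
  have h2 := hM s u
  rw [h1, hM, hu, toMul_ofMul] at h2
  exact (Additive.ofMul.injective h2).symm

/-- Isometries of a plane over a prime field have determinant one. -/
theorem exists_sl_hom {q : ℕ} (hq : q.Prime) {W μ : Type u} [CommGroup W] [Finite W] [CommGroup μ]
    {β : W → W → μ} (hβ : IsPairing β) (hexp : ∀ w : W, w ^ q = 1) (hcard : Nat.card W = q * q)
    (S : Subgroup (MulAut W)) (hS : ∀ s ∈ S, ∀ a b : W, β (s a) (s b) = β a b) :
    ∃ f : S →* SL(2, ZMod q), Function.Injective f := by
  have hz : ∀ w : Additive W, q • w = 0 := fun w => by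
    rw [← ofMul_toMul w, ← ofMul_pow, hexp, ofMul_one]
  exact @exists_sl_hom_aux q hq W μ _ _ _ β hβ (AddCommGroup.zmodModule hz) hexp hcard S hS

end CfsgLib.ClassLin
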