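import Cfsg.Agent.Lib.ClassLin.Field
import Cfsg.Agent.Lib.ClassLin.Blocks
import Cfsg.Agent.Lib.ClassLin.Small
import Cfsg.Agent.Lib.ClassNumberPSq.Assembly
import Mathlib.Data.ZMod.Basic

/-!
Orders of solvable irreducible linear groups of small degree over the fields with two and three elements.
-/

set_option autoImplicit false
set_option linter.unusedSectionVars false
set_option linter.style.haveILetI false
set_option maxHeartbeats 1000000

namespace CfsgLib.ClassLin

open CfsgLib.BaseTwo (Irr FieldCase scalars)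
open CfsgLib.ClassPSq (Bd exists_max_abelian)

universe u

/-- A solvable group acting faithfully and irreducibly on a group of exponent `p` and order `p ^ m`. -/
structure LinGrp (A V : Type u) [Group A] [AddCommGroup V] [DistribMulAction A V] (p m : ℕ) : Prop where
  sol : Group.IsSolvable A
  faith : ∀ a : A, (∀ v : V, a • v = v) → a = 1
  irr : Irr A V
  exp : ∀ v : V, p • v = 0
  card : Nat.card V = p ^ m
  one_le : 1 ≤ m

/-- Every such group has order at most `N`. -/
def LinBd (p m N : ℕ) : Prop :=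
  ∀ (A V : Type u) [Group A] [Finite A] [AddCommGroup V] [Finite V] [DistribMulAction A V],
    LinGrp A V p m → Nat.card A ≤ N

/-- What the block case gives. -/
def BlockCase (p m n : ℕ) : Prop :=
  ∃ (H W : Type u) (_ : Group H) (_ : Finite H) (_ : AddCommGroup W) (_ : Finite W) (_ : DistribMulAction H W)
    (t m₀ τ : ℕ), 2 ≤ t ∧ t * m₀ = m ∧ LinGrp H W p m₀ ∧ 3 * τ ≤ 3 ^ t ∧ τ ≤ t.factorial ∧
      n ≤ Nat.card H ^ t * τ

/-- What the field case gives. -/
def FieldOrder (p m n : ℕ) : Prop :=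
  ∃ a d e : ℕ, a * d = m ∧ 1 ≤ a ∧ 1 ≤ e ∧ e ≤ d ∧ (∀ r : ℕ, r.Prime → r ∣ e → r ∣ p ^ a - 1) ∧
    n ≤ (p ^ a - 1) * (e * e * Bd e) * a ∧ (e = 4 → 5 * n ≤ (p ^ a - 1) * (e * e * Bd e) * a)

theorem linear_step {A V : Type u} [Group A] [Finite A] [AddCommGroup V] [Finite V] [DistribMulAction A V]
    {p m : ℕ} [Fact p.Prime] (L : LinGrp A V p m) :
    BlockCase.{u} p m (Nat.card A) ∨ FieldOrder p m (Nat.card A) := by
  classical
  letI : Module (ZMod p) V := AddCommGroup.zmodModule L.exp
  have hk : KScal (ZMod p) A V := KScal.prime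
  obtain ⟨U, hU, hUc, hmax⟩ := exists_max_abelian (A := A)
  by_cases hall : ∀ s ∈ scalars V U, s ≠ 0 → ∃ s' ∈ scalars V U, s * s' = 1
  · right
    obtain ⟨v, hv⟩ : ∃ v : V, v ≠ 0 := by
      by_contra hn
      push Not at hn
      have : Subsingleton V := ⟨fun x y => (hn x).trans (hn y).symm⟩
      have h1 := Nat.card_of_subsingleton (0 : V)
      rw [L.card] at h1
      exact absurd h1 (Nat.one_lt_pow (Nat.one_le_iff_ne_zero.1 L.one_le) (Fact.out : p.Prime).one_lt).ne'
    have F : FieldCase A V U := ⟨⟨v, hv⟩, hU, hUc, hall, L.faith⟩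
    have hcU : Subgroup.center A ≤ U := by
      have h := hmax (U ⊔ Subgroup.center A) inferInstance le_sup_left (by
        intro x hx y hy
        rw [← SetLike.mem_coe, Subgroup.normal_mul] at hx hy
        obtain ⟨x1, hx1, x2, hx2, rfl⟩ := hx
        obtain ⟨y1, hy1, y2, hy2, rfl⟩ := hy
        have c : ∀ z ∈ Subgroup.center A, ∀ g : A, Commute z g := fun z hz g =>
          (Subgroup.mem_center_iff.1 hz g).symm
        exact (((show Commute x1 y1 from hUc x1 hx1 y1 hy1).mul_right ((c y2 hy2 x1).symm)).mul_left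
          (c x2 hx2 (y1 * y2))).eq)
      exact le_sup_right.trans_eq h
    have hkU : ∀ c : ZMod p, ∃ f ∈ scalars V U, ∀ v : V, f v = c • v := fun c => by
      obtain ⟨f, hf, hfv⟩ := hk c
      exact ⟨f, Subring.closure_mono (Set.image_mono hcU) hf, hfv⟩
    obtain ⟨a, d, e, E, ha, -, hV, he, hed, hUd, hidx, hrU, hEn, hUE, hEC, -, hUEi, W, _, _, μ, _, _, _, β,
        act, hβ, hW, -, hiso, -, hker, hexpW⟩ :=
      exists_fieldLayer L.sol F hmax L.exp hkU (fun a c v => hk.comm a c v)
    rw [Nat.card_zmod] at hV hUd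
    have had : a * d = m := Nat.pow_right_injective (Fact.out : p.Prime).two_le (hV.symm.trans L.card)
    set C := Subgroup.centralizer (U : Set A) with hC
    haveI : Finite (MulAut W) := Finite.of_injective (fun φ : MulAut W => (φ : W → W)) DFunLike.coe_injective
    let g := act.comp C.subtype
    have hgk : g.ker = E.subgroupOf C := by
      ext c
      rw [MonoidHom.mem_ker, Subgroup.mem_subgroupOf]
      exact hker c c.2
    have hgc : E.relIndex C = Nat.card g.range := by
      rw [← Subgroup.index_ker, hgk]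
      rfl
    have hpres : ∀ (s : g.range) (x y : W), β ((s : MulAut W) x) ((s : MulAut W) y) = β x y := by
      rintro ⟨_, c, rfl⟩ x y
      exact hiso c c.2 x y
    have hS : Nat.card g.range ≤ Bd e := hβ.card_le g.range.subtype Subtype.val_injective hpres hW
    have hUC : U ≤ C := hUE.trans hEC
    have hUle : Nat.card U ≤ p ^ a - 1 := Nat.le_of_dvd (by
      have := Nat.one_lt_pow (n := a) (by omega) (Fact.out : p.Prime).one_lt
      omega) hUd
    have hA : Nat.card A = Nat.card U * (e * e * Nat.card g.range) * C.index := by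
      rw [← hgc, ← hUEi, Subgroup.relIndex_mul_relIndex U E C hUE hEC, Subgroup.relIndex,
        ← Nat.card_congr (Subgroup.subgroupOfEquivOfLe hUC).toEquiv, Subgroup.card_mul_index,
        Subgroup.card_mul_index]
    refine ⟨a, d, e, had, ha, he, hed, fun r hr hre => (hrU r hr hre).trans hUd, ?_, fun h4 => ?_⟩
    · rw [hA]
      exact Nat.mul_le_mul (Nat.mul_le_mul hUle (Nat.mul_le_mul_left _ hS)) hidx
    · subst h4
      have h2 : ∀ w : W, w * w = 1 := fun w => by
        have h16 : w ^ 16 = 1 := by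
          rw [show (16 : ℕ) = 4 * 4 from rfl, ← hW]
          exact pow_card_eq_one'
        have h8 : w ^ 8 = 1 := by
          have := hexpW 2 Nat.prime_two (w ^ 4) (by rw [← pow_mul]; exact h16)
          rwa [← pow_mul] at this
        have h4 : w ^ 4 = 1 := by
          have := hexpW 2 Nat.prime_two (w ^ 2) (by rw [← pow_mul]; exact h8)
          rwa [← pow_mul] at this
        rw [← pow_two]
        exact hexpW 2 Nat.prime_two w h4
      haveI := L.sol
      have hgs : Group.IsSolvable g.range := Group.isSolvable_of_surjective g.rangeRestrict_surjective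
      have h5 := hβ.five_mul_le g.range.subtype Subtype.val_injective hpres hgs h2 (by omega) hW
      rw [hA, show 5 * (Nat.card U * (4 * 4 * Nat.card g.range) * C.index) =
        Nat.card U * (4 * 4 * (5 * Nat.card g.range)) * C.index by ring]
      exact Nat.mul_le_mul (Nat.mul_le_mul hUle (Nat.mul_le_mul_left _ h5)) hidx
  · left
    obtain ⟨H, _, _, W, _, _, _, _, t, π, ψ, ht, hHs, hHf, hHi, -, -, -, hcard, hexp, hψ, hτ3, hτ, -, -⟩ :=
      exists_blocks L.sol L.faith L.irr hk hU hUc hall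
    have hW1 : Nat.card W ^ t = p ^ m := hcard.trans L.card
    obtain ⟨m₀, -, hm₀⟩ := (Nat.dvd_prime_pow Fact.out).1 (hW1 ▸ dvd_pow_self (Nat.card W) (by omega))
    have htm : t * m₀ = m := Nat.pow_right_injective (Fact.out : p.Prime).two_le (by
      show p ^ (t * m₀) = p ^ m
      rw [mul_comm, pow_mul, ← hm₀, hW1])
    refine ⟨H, W, inferInstance, inferInstance, inferInstance, inferInstance, inferInstance, t, m₀,
      Nat.card π.range, ht, htm, ⟨hHs, hHf, hHi, hexp p L.exp, hm₀, ?_⟩, hτ3, hτ, ?_⟩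
    · rcases Nat.eq_zero_or_pos m₀ with rfl | h
      · rw [mul_zero] at htm
        have := L.one_le
        omega
      · exact h
    · rw [← π.ker.card_mul_index, Subgroup.index_ker]
      refine Nat.mul_le_mul_right _ ((Nat.card_le_card_of_injective ψ hψ).trans_eq ?_)
      rw [Nat.card_fun, Nat.card_fin]

theorem eq_one_of_prime {e n : ℕ} (h : ∀ r : ℕ, r.Prime → r ∣ e → r ∣ n) (hn : n = 1) : e = 1 := by
  by_contra hne
  obtain ⟨r, hr, hre⟩ := Nat.exists_prime_and_dvd hne
  exact hr.not_dvd_one (hn ▸ h r hr hre)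

/-- Evaluation of a block case. -/
theorem block_le {p m n N : ℕ} (h : BlockCase.{u} p m n)
    (hb : ∀ t m₀ τ M, 2 ≤ t → t * m₀ = m → 3 * τ ≤ 3 ^ t → τ ≤ t.factorial →
      (∀ K, LinBd.{u} p m₀ K → M ≤ K) → n ≤ M ^ t * τ → n ≤ N) : n ≤ N := by
  obtain ⟨H, W, _, _, _, _, _, t, m₀, τ, ht, htm, L, h3, hτ, hn⟩ := h
  exact hb t m₀ τ (Nat.card H) ht htm h3 hτ (fun K hK => hK H W L) hn

theorem bd_small' : Bd 1 = 1 ∧ Bd 2 = 6 ∧ Bd 3 = 24 ∧ Bd 4 = 720 ∧ Bd 5 = 120 := by
  obtain ⟨-, b1, b2, b3, b4, b5, -⟩ := CfsgLib.ClassPSq.Bd_small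
  exact ⟨b1, b2, b3, b4, b5⟩

theorem linBd_one (p : ℕ) [Fact p.Prime] : LinBd.{u} p 1 (p - 1) := by
  intro A V _ _ _ _ _ L
  rcases linear_step L with h | ⟨a, d, e, had, ha, he, hed, -, hn, -⟩
  · exact block_le h fun t m₀ τ M ht htm _ _ _ _ => by
      have := Nat.eq_one_of_mul_eq_one_right htm
      omega
  · obtain rfl := Nat.eq_one_of_mul_eq_one_right had
    have hd : d = 1 := by omega
    obtain rfl : e = 1 := by omega
    simpa [bd_small'.1] using hn

theorem linBd_two_one : LinBd.{u} 2 1 1 := linBd_one 2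

theorem linBd_two_two : LinBd.{u} 2 2 6 := by
  intro A V _ _ _ _ _ L
  exact (kb_of_card_four L.faith (by rw [L.card]; norm_num)).2

theorem mul_eq_cases {a d m : ℕ} (h : a * d = m) (hm : m ≠ 0) : a ∈ m.divisors ∧ d = m / a := by
  refine ⟨Nat.mem_divisors.2 ⟨⟨d, h.symm⟩, hm⟩, ?_⟩
  rw [← h, Nat.mul_div_cancel_left _ (Nat.pos_of_ne_zero fun e => hm (by rw [← h, e, zero_mul]))]

theorem linBd_two_three : LinBd.{u} 2 3 21 := by
  intro A V _ _ _ _ _ L
  rcases linear_step L with h | ⟨a, d, e, had, ha, he, hed, hr, hn, -⟩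
  · refine block_le h fun t m₀ τ M ht htm h3 hτ hM hn => ?_
    obtain ⟨htd, rfl⟩ := mul_eq_cases htm (by norm_num)
    rcases (Nat.dvd_prime Nat.prime_three).1 (Nat.dvd_of_mem_divisors htd) with rfl | rfl
    · omega
    · have := hn.trans (Nat.mul_le_mul (Nat.pow_le_pow_left (hM 1 linBd_two_one) 3) hτ)
      norm_num [Nat.factorial] at this
      omega
  · obtain ⟨had', rfl⟩ := mul_eq_cases had (by norm_num)
    rcases (Nat.dvd_prime Nat.prime_three).1 (Nat.dvd_of_mem_divisors had') with rfl | rfl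
    · obtain rfl := eq_one_of_prime hr rfl
      norm_num [bd_small'.1] at hn ⊢
      omega
    · obtain rfl : e = 1 := by omega
      norm_num [bd_small'.1] at hn ⊢
      omega

theorem linBd_two_five : LinBd.{u} 2 5 155 := by
  intro A V _ _ _ _ _ L
  rcases linear_step L with h | ⟨a, d, e, had, ha, he, hed, hr, hn, -⟩
  · refine block_le h fun t m₀ τ M ht htm h3 hτ hM hn => ?_
    obtain ⟨htd, rfl⟩ := mul_eq_cases htm (by norm_num)
    rcases (Nat.dvd_prime (by norm_num : Nat.Prime 5)).1 (Nat.dvd_of_mem_divisors htd) with rfl | rfl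
    · omega
    · have h1 : τ ≤ 81 := by norm_num at h3; omega
      have := hn.trans (Nat.mul_le_mul (Nat.pow_le_pow_left (hM 1 linBd_two_one) 5) h1)
      omega
  · obtain ⟨had', rfl⟩ := mul_eq_cases had (by norm_num)
    rcases (Nat.dvd_prime (by norm_num : Nat.Prime 5)).1 (Nat.dvd_of_mem_divisors had') with rfl | rfl
    · obtain rfl := eq_one_of_prime hr rfl
      norm_num [bd_small'.1] at hn ⊢
      omega
    · obtain rfl : e = 1 := by omega
      norm_num [bd_small'.1] at hn ⊢
      omega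

/-- Rules out primes. -/
theorem small_e {e n : ℕ} (he : 1 ≤ e) (hle : e ≤ 5) (h : ∀ r : ℕ, r.Prime → r ∣ e → r ∣ n) :
    e = 1 ∨ (e = 2 ∧ 2 ∣ n) ∨ (e = 3 ∧ 3 ∣ n) ∨ (e = 4 ∧ 2 ∣ n) ∨ (e = 5 ∧ 5 ∣ n) := by
  interval_cases e
  · simp
  · simp [h 2 Nat.prime_two dvd_rfl]
  · simp [h 3 Nat.prime_three dvd_rfl]
  · simp [h 2 Nat.prime_two (by norm_num)]
  · simp [h 5 (by norm_num) dvd_rfl]

theorem linBd_two_four : LinBd.{u} 2 4 72 := by
  intro A V _ _ _ _ _ L
  obtain ⟨b1, b2, b3, b4, b5⟩ := bd_small'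
  rcases linear_step L with h | ⟨a, d, e, had, ha, he, hed, hr, hn, -⟩
  · refine block_le h fun t m₀ τ M ht htm h3 hτ hM hn => ?_
    obtain ⟨htd, rfl⟩ := mul_eq_cases htm (by norm_num)
    rw [show (4 : ℕ).divisors = {1, 2, 4} by decide] at htd
    simp only [Finset.mem_insert, Finset.mem_singleton] at htd
    rcases htd with rfl | rfl | rfl
    · omega
    · exact hn.trans ((Nat.mul_le_mul (Nat.pow_le_pow_left (hM 6 linBd_two_two) 2) hτ).trans (by norm_num))
    · exact hn.trans ((Nat.mul_le_mul (Nat.pow_le_pow_left (hM 1 linBd_two_one) 4) hτ).trans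
        (by norm_num [Nat.factorial]))
  · obtain ⟨had', rfl⟩ := mul_eq_cases had (by norm_num)
    rw [show (4 : ℕ).divisors = {1, 2, 4} by decide] at had'
    simp only [Finset.mem_insert, Finset.mem_singleton] at had'
    rcases had' with rfl | rfl | rfl
    all_goals norm_num at hed
    all_goals rcases small_e he (by omega) hr with rfl | ⟨rfl, h⟩ | ⟨rfl, h⟩ | ⟨rfl, h⟩ | ⟨rfl, h⟩
    all_goals simp only [b1, b2, b3, b4, b5] at hn
    all_goals norm_num at *
    all_goals omega

theorem linBd_two_six : LinBd.{u} 2 6 1296 := by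
  intro A V _ _ _ _ _ L
  obtain ⟨b1, b2, b3, b4, b5⟩ := bd_small'
  rcases linear_step L with h | ⟨a, d, e, had, ha, he, hed, hr, hn, -⟩
  · refine block_le h fun t m₀ τ M ht htm h3 hτ hM hn => ?_
    obtain ⟨htd, rfl⟩ := mul_eq_cases htm (by norm_num)
    rw [show (6 : ℕ).divisors = {1, 2, 3, 6} by decide] at htd
    simp only [Finset.mem_insert, Finset.mem_singleton] at htd
    rcases htd with rfl | rfl | rfl | rfl
    · omega
    · exact hn.trans ((Nat.mul_le_mul (Nat.pow_le_pow_left (hM 21 linBd_two_three) 2) hτ).trans (by norm_num))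
    · exact hn.trans ((Nat.mul_le_mul (Nat.pow_le_pow_left (hM 6 linBd_two_two) 3) hτ).trans
        (by norm_num [Nat.factorial]))
    · have h1 : τ ≤ 243 := by norm_num at h3; omega
      exact hn.trans ((Nat.mul_le_mul (Nat.pow_le_pow_left (hM 1 linBd_two_one) 6) h1).trans (by norm_num))
  · obtain ⟨had', rfl⟩ := mul_eq_cases had (by norm_num)
    rw [show (6 : ℕ).divisors = {1, 2, 3, 6} by decide] at had'
    simp only [Finset.mem_insert, Finset.mem_singleton] at had'
    rcases had' with rfl | rfl | rfl | rfl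
    · obtain rfl := eq_one_of_prime hr rfl
      norm_num [b1] at hn ⊢
      omega
    all_goals norm_num at hed
    all_goals rcases small_e he (by omega) hr with rfl | ⟨rfl, h⟩ | ⟨rfl, h⟩ | ⟨rfl, h⟩ | ⟨rfl, h⟩
    all_goals simp only [b1, b2, b3, b4, b5] at hn
    all_goals norm_num at *
    all_goals omega

theorem linBd_two_eight : LinBd.{u} 2 8 31104 := by
  intro A V _ _ _ _ _ L
  obtain ⟨b1, b2, b3, b4, b5⟩ := bd_small'
  rcases linear_step L with h | ⟨a, d, e, had, ha, he, hed, hr, hn, -⟩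
  · refine block_le h fun t m₀ τ M ht htm h3 hτ hM hn => ?_
    obtain ⟨htd, rfl⟩ := mul_eq_cases htm (by norm_num)
    rw [show (8 : ℕ).divisors = {1, 2, 4, 8} by decide] at htd
    simp only [Finset.mem_insert, Finset.mem_singleton] at htd
    rcases htd with rfl | rfl | rfl | rfl
    · omega
    · exact hn.trans ((Nat.mul_le_mul (Nat.pow_le_pow_left (hM 72 linBd_two_four) 2) hτ).trans (by norm_num))
    · exact hn.trans ((Nat.mul_le_mul (Nat.pow_le_pow_left (hM 6 linBd_two_two) 4) hτ).trans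
        (by norm_num [Nat.factorial]))
    · have h1 : τ ≤ 2187 := by norm_num at h3; omega
      exact hn.trans ((Nat.mul_le_mul (Nat.pow_le_pow_left (hM 1 linBd_two_one) 8) h1).trans (by norm_num))
  · obtain ⟨had', rfl⟩ := mul_eq_cases had (by norm_num)
    rw [show (8 : ℕ).divisors = {1, 2, 4, 8} by decide] at had'
    simp only [Finset.mem_insert, Finset.mem_singleton] at had'
    rcases had' with rfl | rfl | rfl | rfl
    · obtain rfl := eq_one_of_prime hr rfl
      norm_num [b1] at hn ⊢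
      omega
    all_goals norm_num at hed
    all_goals rcases small_e he (by omega) hr with rfl | ⟨rfl, h⟩ | ⟨rfl, h⟩ | ⟨rfl, h⟩ | ⟨rfl, h⟩
    all_goals simp only [b1, b2, b3, b4, b5] at hn
    all_goals norm_num at *
    all_goals omega

theorem linBd_two_ten : LinBd.{u} 2 10 629856 := by
  intro A V _ _ _ _ _ L
  obtain ⟨b1, b2, b3, b4, b5⟩ := bd_small'
  rcases linear_step L with h | ⟨a, d, e, had, ha, he, hed, hr, hn, -⟩
  · refine block_le h fun t m₀ τ M ht htm h3 hτ hM hn => ?_
    obtain ⟨htd, rfl⟩ := mul_eq_cases htm (by norm_num)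
    rw [show (10 : ℕ).divisors = {1, 2, 5, 10} by decide] at htd
    simp only [Finset.mem_insert, Finset.mem_singleton] at htd
    rcases htd with rfl | rfl | rfl | rfl
    · omega
    · exact hn.trans ((Nat.mul_le_mul (Nat.pow_le_pow_left (hM 155 linBd_two_five) 2) hτ).trans (by norm_num))
    · have h1 : τ ≤ 81 := by norm_num at h3; omega
      exact hn.trans ((Nat.mul_le_mul (Nat.pow_le_pow_left (hM 6 linBd_two_two) 5) h1).trans (by norm_num))
    · have h1 : τ ≤ 19683 := by norm_num at h3; omega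
      exact hn.trans ((Nat.mul_le_mul (Nat.pow_le_pow_left (hM 1 linBd_two_one) 10) h1).trans (by norm_num))
  · obtain ⟨had', rfl⟩ := mul_eq_cases had (by norm_num)
    rw [show (10 : ℕ).divisors = {1, 2, 5, 10} by decide] at had'
    simp only [Finset.mem_insert, Finset.mem_singleton] at had'
    rcases had' with rfl | rfl | rfl | rfl
    · obtain rfl := eq_one_of_prime hr rfl
      norm_num [b1] at hn ⊢
      omega
    all_goals norm_num at hed
    all_goals rcases small_e he (by omega) hr with rfl | ⟨rfl, h⟩ | ⟨rfl, h⟩ | ⟨rfl, h⟩ | ⟨rfl, h⟩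
    all_goals simp only [b1, b2, b3, b4, b5] at hn
    all_goals norm_num at *
    all_goals omega

theorem linBd_three_two : LinBd.{u} 3 2 48 := by
  intro A V _ _ _ _ _ L
  haveI : Fact (Nat.Prime 3) := ⟨Nat.prime_three⟩
  obtain ⟨b1, b2, b3, b4, b5⟩ := bd_small'
  rcases linear_step L with h | ⟨a, d, e, had, ha, he, hed, hr, hn, -⟩
  · refine block_le h fun t m₀ τ M ht htm h3 hτ hM hn => ?_
    obtain ⟨htd, rfl⟩ := mul_eq_cases htm (by norm_num)
    rcases (Nat.dvd_prime Nat.prime_two).1 (Nat.dvd_of_mem_divisors htd) with rfl | rfl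
    · omega
    · exact hn.trans ((Nat.mul_le_mul (Nat.pow_le_pow_left (hM 2 (linBd_one 3)) 2) hτ).trans (by norm_num))
  · obtain ⟨had', rfl⟩ := mul_eq_cases had (by norm_num)
    rcases (Nat.dvd_prime Nat.prime_two).1 (Nat.dvd_of_mem_divisors had') with rfl | rfl
    all_goals norm_num at hed
    all_goals rcases small_e he (by omega) hr with rfl | ⟨rfl, h⟩ | ⟨rfl, h⟩ | ⟨rfl, h⟩ | ⟨rfl, h⟩
    all_goals simp only [b1, b2, b3, b4, b5] at hn
    all_goals norm_num at *
    all_goals omega

theorem linBd_three_four : LinBd.{u} 3 4 4608 := by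
  intro A V _ _ _ _ _ L
  haveI : Fact (Nat.Prime 3) := ⟨Nat.prime_three⟩
  obtain ⟨b1, b2, b3, b4, b5⟩ := bd_small'
  rcases linear_step L with h | ⟨a, d, e, had, ha, he, hed, hr, hn, h4⟩
  · refine block_le h fun t m₀ τ M ht htm h3 hτ hM hn => ?_
    obtain ⟨htd, rfl⟩ := mul_eq_cases htm (by norm_num)
    rw [show (4 : ℕ).divisors = {1, 2, 4} by decide] at htd
    simp only [Finset.mem_insert, Finset.mem_singleton] at htd
    rcases htd with rfl | rfl | rfl
    · omega
    · exact hn.trans ((Nat.mul_le_mul (Nat.pow_le_pow_left (hM 48 linBd_three_two) 2) hτ).trans (by norm_num))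
    · exact hn.trans ((Nat.mul_le_mul (Nat.pow_le_pow_left (hM 2 (linBd_one 3)) 4) hτ).trans
        (by norm_num [Nat.factorial]))
  · obtain ⟨had', rfl⟩ := mul_eq_cases had (by norm_num)
    rw [show (4 : ℕ).divisors = {1, 2, 4} by decide] at had'
    simp only [Finset.mem_insert, Finset.mem_singleton] at had'
    rcases had' with rfl | rfl | rfl
    all_goals norm_num at hed
    all_goals rcases small_e he (by omega) hr with rfl | ⟨rfl, h⟩ | ⟨rfl, h⟩ | ⟨rfl, h⟩ | ⟨rfl, h⟩
    all_goals simp only [b1, b2, b3, b4, b5] at hn h4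
    all_goals norm_num at *
    all_goals omega

end CfsgLib.ClassLin
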