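import Cfsg.Prelude.Def_Solvable
import Mathlib

/-!
Finite complex linear groups embed in linear groups over finite fields of coprime characteristic.
-/

set_option autoImplicit false

namespace CfsgLib.ClassLin

open Matrix

universe u

/-- The bound on the class numbers of subgroups modulo the Fitting subgroup, over finite fields. -/
def FittingBound : Prop :=
  ∀ (A : Type u) [Group A] [Finite A] (V : Type u) [AddCommGroup V] [Finite V] [DistribMulAction A V]
    (K : Type u) [Field K] [Finite K] [Module K V] [SMulCommClass A K V]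
    [(Cfsg.fittingSubgroup A).Normal],
    Group.IsSolvable A → (∀ a : A, (∀ v : V, a • v = v) → a = 1) →
    (Nat.card A).Coprime (Nat.card K) → ∀ r : ℕ, Module.finrank K V = r → ∀ H : Subgroup A,
    Nat.card (ConjClasses (H ⧸ (Cfsg.fittingSubgroup A).subgroupOf H)) ≤ 3 ^ (r - 1)

theorem isJacobsonRing_int : IsJacobsonRing ℤ := by
  rw [isJacobsonRing_iff_prime_eq]
  intro P hP
  by_cases h0 : P = ⊥
  · subst h0
    refine le_antisymm (fun x hx => ?_) Ideal.le_jacobson
    by_contra hx0
    rw [Ideal.mem_bot] at hx0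
    obtain ⟨q, hq, hqp⟩ := Nat.exists_infinite_primes (x.natAbs + 1)
    have hmax : (Ideal.span {(q : ℤ)}).IsMaximal :=
      PrincipalIdealRing.isMaximal_of_irreducible (Nat.prime_iff_prime_int.1 hqp).irreducible
    have hxq : x ∈ Ideal.span {(q : ℤ)} := (Ideal.mem_sInf.1 hx) ⟨bot_le, hmax⟩
    rw [Ideal.mem_span_singleton, Int.natCast_dvd] at hxq
    have := Nat.le_of_dvd (Int.natAbs_pos.2 hx0) hxq
    omega
  · have := hP.isMaximal h0
    exact Ideal.jacobson_eq_self_of_isMaximal

/-- A field of finite type over the integers is finite. -/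
theorem finite_field_of_finiteType_int (K : Type u) [Field K] [Algebra.FiniteType ℤ K] : Finite K := by
  have := isJacobsonRing_int
  have hfin : Module.Finite ℤ K := finite_of_finite_type_of_isJacobsonRing ℤ K
  obtain ⟨p, hp⟩ := CharP.exists K
  rcases CharP.char_is_prime_or_zero K p with hpp | rfl
  · have := Fact.mk hpp
    let _ : Algebra (ZMod p) K := ZMod.algebra K p
    have : Module.Finite (ZMod p) K := Module.Finite.of_restrictScalars_finite ℤ (ZMod p) K
    exact Module.finite_of_finite (ZMod p)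
  · have : CharZero K := CharP.charP_to_charZero K
    have h : IsField ℤ := isField_of_isIntegral_of_isField (R := ℤ) (S := K)
      (algebraMap ℤ K).injective_int (Field.toIsField K)
    exact absurd h Int.not_isField

/-- **Reduction to finite fields.** -/
theorem exists_finite_field {r : ℕ} (G : Subgroup (GL (Fin r) ℂ)) [Finite G] :
    ∃ (K : Type) (_ : Field K) (_ : Finite K), (Nat.card G).Coprime (Nat.card K) ∧
      ∃ φ : G →* GL (Fin r) K, Function.Injective φ := by
  classical
  have := Fintype.ofFinite G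
  let ent : G → Fin r → Fin r → ℂ := fun g i j => ((g : GL (Fin r) ℂ) : Matrix (Fin r) (Fin r) ℂ) i j
  have hne : ∀ g : G, g ≠ 1 → ∃ ij : Fin r × Fin r,
      ent g ij.1 ij.2 - (1 : Matrix (Fin r) (Fin r) ℂ) ij.1 ij.2 ≠ 0 := by
    intro g hg
    by_contra hno
    push Not at hno
    exact hg (Subtype.ext (Units.ext (Matrix.ext fun i j => sub_eq_zero.1 (hno (i, j)))))
  choose pos hpos using hne
  let T : Finset ℂ := (Finset.univ.image fun x : G × Fin r × Fin r => ent x.1 x.2.1 x.2.2) ∪
    insert ((Nat.card G : ℂ)⁻¹) (Finset.univ.image fun g : {g : G // g ≠ 1} =>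
      (ent g.1 (pos g.1 g.2).1 (pos g.1 g.2).2 -
        (1 : Matrix (Fin r) (Fin r) ℂ) (pos g.1 g.2).1 (pos g.1 g.2).2)⁻¹)
  let R : Subalgebra ℤ ℂ := Algebra.adjoin ℤ (T : Set ℂ)
  have hR : Algebra.FiniteType ℤ R := (Subalgebra.fg_iff_finiteType _).1 (Subalgebra.fg_adjoin_finset _)
  have hmemT : ∀ {x : ℂ}, x ∈ T → x ∈ R := fun h => Algebra.subset_adjoin h
  have hent : ∀ g i j, ent g i j ∈ R := fun g i j => hmemT (Finset.mem_union_left _
    (Finset.mem_image.2 ⟨(g, i, j), Finset.mem_univ _, rfl⟩))
  let ρ : G →* Matrix (Fin r) (Fin r) R :=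
    { toFun := fun g => Matrix.of fun i j => ⟨ent g i j, hent g i j⟩
      map_one' := by
        ext i j
        by_cases h : i = j <;> simp [ent, Matrix.one_apply, h]
      map_mul' := fun g h => by
        ext i j
        simp [ent, Matrix.mul_apply] }
  obtain ⟨m, hm⟩ := Ideal.exists_maximal R
  let _ : Field (R ⧸ m) := Ideal.Quotient.field m
  have hfin : Finite (R ⧸ m) := by
    refine @finite_field_of_finiteType_int (R ⧸ m) _ ?_
    exact Algebra.FiniteType.of_surjective (hf := Ideal.Quotient.mk_surjective)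
      (Ideal.Quotient.mk m).toIntAlgHom
  let π : R →+* R ⧸ m := Ideal.Quotient.mk m
  let φ : G →* GL (Fin r) (R ⧸ m) := ((π.mapMatrix).toMonoidHom.comp ρ).toHomUnits
  refine ⟨R ⧸ m, inferInstance, hfin, ?_, φ, ?_⟩
  · -- the order is invertible
    have hN : (Nat.card G : ℂ)⁻¹ ∈ R :=
      hmemT (Finset.mem_union_right _ (Finset.mem_insert_self _ _))
    have hprod : ((Nat.card G : R ⧸ m)) * π ⟨_, hN⟩ = 1 := by
      rw [← map_natCast π, ← map_mul, ← map_one π]
      refine congrArg π (Subtype.ext ?_)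
      push_cast
      exact mul_inv_cancel₀ (Nat.cast_ne_zero.2 Nat.card_pos.ne')
    obtain ⟨p, hp⟩ := CharP.exists (R ⧸ m)
    have := Fintype.ofFinite (R ⧸ m)
    have hpp : p.Prime := CharP.char_is_prime (R ⧸ m) p
    have hnd : ¬ p ∣ Nat.card G := fun h => by
      rw [(CharP.cast_eq_zero_iff (R ⧸ m) p _).2 h, zero_mul] at hprod
      exact zero_ne_one hprod
    obtain ⟨k, -, hk⟩ := FiniteField.card (R ⧸ m) p
    rw [Nat.card_eq_fintype_card (α := R ⧸ m), hk]
    exact ((hpp.coprime_iff_not_dvd.2 hnd).symm).pow_right _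
  · rw [injective_iff_map_eq_one]
    intro g hg
    by_contra hg1
    set i := (pos g hg1).1
    set j := (pos g hg1).2
    have hd : (ent g i j - (1 : Matrix (Fin r) (Fin r) ℂ) i j)⁻¹ ∈ R :=
      hmemT (Finset.mem_union_right _ (Finset.mem_insert_of_mem
        (Finset.mem_image.2 ⟨⟨g, hg1⟩, Finset.mem_univ _, rfl⟩)))
    have h1 : π (ρ g i j) = π ((1 : Matrix (Fin r) (Fin r) R) i j) := by
      have h := congrArg (fun u : GL (Fin r) (R ⧸ m) => Units.val u i j) hg
      simpa [φ, Matrix.one_apply, apply_ite π] using h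
    have hprod : (ρ g i j - (1 : Matrix (Fin r) (Fin r) R) i j) * (⟨_, hd⟩ : R) = 1 := by
      refine Subtype.ext ?_
      have e : (((1 : Matrix (Fin r) (Fin r) R) i j : R) : ℂ) = (1 : Matrix (Fin r) (Fin r) ℂ) i j := by
        by_cases h : i = j <;> simp [Matrix.one_apply, h]
      push_cast
      rw [e]
      exact mul_inv_cancel₀ (hpos g hg1)
    have h2 := congrArg π hprod
    rw [map_mul, map_sub, h1, sub_self, zero_mul, map_one] at h2
    exact zero_ne_one h2

/-- The complex case from the finite case. -/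
theorem classes_mod_fitting_complex (hF : FittingBound.{0}) (r : ℕ) (G : Subgroup (GL (Fin r) ℂ))
    [Finite G] (hsolv : Group.IsSolvable G) [hN : (Cfsg.fittingSubgroup G).Normal] (H : Subgroup G) :
    Nat.card (ConjClasses (H ⧸ (Cfsg.fittingSubgroup G).subgroupOf H)) ≤ 3 ^ (r - 1) := by
  obtain ⟨K, _, _, hcop, φ, hφ⟩ := exists_finite_field G
  let _ : DistribMulAction G (Fin r → K) :=
    { smul := fun g v => ((φ g : GL (Fin r) K) : Matrix (Fin r) (Fin r) K).mulVec v
      one_smul := fun v => by
        show ((φ 1 : GL (Fin r) K) : Matrix (Fin r) (Fin r) K).mulVec v = v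
        simp
      mul_smul := fun g h v => by
        show ((φ (g * h) : GL (Fin r) K) : Matrix (Fin r) (Fin r) K).mulVec v = Matrix.mulVec _ (Matrix.mulVec _ v)
        rw [map_mul, Units.val_mul, Matrix.mulVec_mulVec]
      smul_zero := fun g => Matrix.mulVec_zero _
      smul_add := fun g v w => Matrix.mulVec_add _ _ _ }
  have : SMulCommClass G K (Fin r → K) := ⟨fun g c v => Matrix.mulVec_smul _ c v⟩
  refine hF G (Fin r → K) K hsolv (fun a ha => hφ ?_) hcop r (Module.finrank_fin_fun K) H
  rw [map_one]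
  refine Units.ext (Matrix.ext fun i j => ?_)
  have h : ((φ a : GL (Fin r) K) : Matrix (Fin r) (Fin r) K).mulVec (Pi.single j 1) = Pi.single j 1 := ha _
  have h2 := congrFun h i
  rw [Matrix.mulVec_single_one, Matrix.col_apply, Pi.single_apply] at h2
  rw [h2, Units.val_one, Matrix.one_apply]

end CfsgLib.ClassLin
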