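import Cfsg.Agent.Lib.ClassLin.Blocks
import Cfsg.Agent.Lib.ClassLin.Field
import Cfsg.Agent.Lib.ClassNumberPSq.Assembly
import Cfsg.Agent.Lib.Coprime.MaschkeAbelian
import Cfsg.Agent.Lib.BlockB.AbelianKGV
import Cfsg.Agent.Lib.ClassLin.FongRed
import Cfsg.Agent.Lib.ClassLin.Reduction

/-!
The induction on a solvable coprime linear group, and the two bounds.
-/

set_option autoImplicit false
set_option linter.unusedSectionVars false
set_option linter.style.haveILetI false
set_option maxHeartbeats 1000000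

namespace CfsgLib.ClassLin

open CfsgLib.BaseTwo (Inv Irr FieldCase scalars endo endo_mem_scalars)
open CfsgLib.ClassPSq (IsPairing exists_max_abelian)
open Subgroup

universe u v

/-- The bound for a group acting on a layer. -/
def LayerBound : Prop :=
  ∀ (A W μ : Type u) [Group A] [Finite A] [CommGroup W] [Finite W] [CommGroup μ] [Finite μ] [IsCyclic μ]
    (β : W → W → μ), IsPairing β → Group.IsSolvable A → ∀ (act : A →* MulAut W) (C : Subgroup A),
    (∀ c x y, β x y = 1 → β (act c x) (act c y) = 1) →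
    (∀ c ∈ C, ∀ x y, β (act c x) (act c y) = β x y) →
    (∀ X : Subgroup W, (∀ c, ∀ x ∈ X, act c x ∈ X) → (∀ x ∈ X, ∀ y ∈ X, β x y = 1) → X = ⊥) →
    ∀ e, Nat.card W = e * e → KB (C.map act) (3 ^ (e - 1))

/-- The bound passes from a group to the image of a smaller kernel. -/
theorem KB.transfer {K L P : Type*} [Group K] [Finite K] [Group L] [Finite L] [Group P] [Finite P] {m : ℕ}
    (h : KB P m) (f : K →* L) (hf : Function.Surjective f) (g : K →* P) (hker : g.ker ≤ f.ker) : KB L m := by
  refine (h.of_injective (QuotientGroup.kerLift g) (QuotientGroup.kerLift_injective g)).of_surjective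
    (QuotientGroup.lift g.ker f hker) fun y => ?_
  obtain ⟨x, rfl⟩ := hf y
  exact ⟨x, rfl⟩

/-- The bound for a quotient by a subgroup of the kernel of a map. -/
theorem KB.of_layers {A Q P : Type*} [Group A] [Finite A] [Group Q] [Finite Q] [Group P] [Finite P]
    {m n : ℕ} (N : Subgroup A) [N.Normal] (π : A →* Q) (hN : N ≤ π.ker) (g : π.ker →* P)
    (hg : g.ker ≤ N.subgroupOf π.ker) (hm : KB P m) (hn : KB Q n) : KB (A ⧸ N) (m * n) := by
  let L := QuotientGroup.lift N π hN
  refine KB.of_hom L ?_ hn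
  let f : π.ker →* L.ker := ((QuotientGroup.mk' N).comp π.ker.subtype).codRestrict L.ker
    fun x => MonoidHom.mem_ker.2 x.2
  refine hm.transfer f ?_ g fun x hx => MonoidHom.mem_ker.2 (Subtype.ext ?_)
  · rintro ⟨y, hy⟩
    obtain ⟨x, rfl⟩ := QuotientGroup.mk_surjective y
    exact ⟨⟨x, hy⟩, rfl⟩
  · exact (QuotientGroup.eq_one_iff _).2 (hg hx)

theorem isNilpotent_of_inj {K L : Type*} [Group K] [Group L] [Group.IsNilpotent L] (g : K →* L)
    (hg : Function.Injective g) : Group.IsNilpotent K :=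
  Subgroup.isNilpotent_of_ker_le_center g (by rw [(MonoidHom.ker_eq_bot_iff g).2 hg]; exact bot_le)

theorem pow_three_sub {a b r : ℕ} (ha : 1 ≤ a) (hb : 1 ≤ b) (h : a + b = r) :
    3 ^ (a - 1) * 3 ^ (b - 1) ≤ 3 ^ (r - 1) := by
  rw [← pow_add]; exact Nat.pow_le_pow_right (by norm_num) (by omega)

section Restrict

variable {A V : Type u} [Group A] [Finite A] [AddCommGroup V] [Finite V] [DistribMulAction A V]
  {k : Type v} [Field k] [Module k V]

/-- The restriction to an invariant subgroup. -/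
theorem exists_restrict (hsol : Group.IsSolvable A) (hk : KScal k A V) {W : AddSubgroup V}
    (hW : Inv (⊤ : Subgroup A) W) :
    ∃ (B : Type u) (_ : Group B) (_ : Finite B) (_ : DistribMulAction B W) (_ : Module k W) (φ : A →* B),
      Function.Surjective φ ∧ Group.IsSolvable B ∧ Nat.card B ∣ Nat.card A ∧
      (∀ (a : A) (w : W), ((φ a • w : W) : V) = a • (w : V)) ∧
      (∀ b : B, (∀ w : W, b • w = w) → b = 1) ∧ KScal k B W := by
  letI : DistribMulAction A W :=
    { smul := fun a w => ⟨a • (w : V), hW a trivial w w.2⟩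
      one_smul := fun w => Subtype.ext (one_smul _ _)
      mul_smul := fun a b w => Subtype.ext (mul_smul _ _ _)
      smul_zero := fun a => Subtype.ext (smul_zero _)
      smul_add := fun a v w => Subtype.ext (smul_add _ _ _) }
  haveI : Finite (AddMonoid.End W) :=
    Finite.of_injective (fun f => (f : W → W)) DFunLike.coe_injective
  let ψ : A →* (AddMonoid.End W)ˣ := (DistribMulAction.toAddMonoidEnd A W).toHomUnits
  have hψ : ∀ (a : A) (w : W), (((⟨ψ a, a, rfl⟩ : ψ.range) • w : W) : V) = a • (w : V) := fun a w => rfl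
  letI : Module k W := Function.Injective.module k
    (M := V) (M₂ := ({ W with smul_mem' := fun c _ hx => hk.stable hW c hx } : Submodule k V))
      (Submodule.subtype _).toAddMonoidHom Subtype.val_injective (fun _ _ => rfl)
  refine ⟨ψ.range, inferInstance, inferInstance, inferInstance, inferInstance, ψ.rangeRestrict,
    ψ.rangeRestrict_surjective, Group.isSolvable_of_surjective ψ.rangeRestrict_surjective,
    Subgroup.card_range_dvd ψ, hψ, ?_, fun c => ?_⟩
  · rintro ⟨_, s, rfl⟩ h
    exact Subtype.ext (Units.ext (DFunLike.ext _ _ fun w => h w))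
  · obtain ⟨g, hg, hgw⟩ := hk.descend W.subtype ⊤ le_top
      (ψ.rangeRestrict.comp (Subgroup.topEquiv (G := A)).toMonoidHom)
      (ψ.rangeRestrict_surjective.comp (Subgroup.topEquiv (G := A)).surjective) (fun s w => hψ s w) c
    exact ⟨g, hg, fun w => Subtype.ext (hgw w)⟩

end Restrict

/-- **The linear bound.** -/
theorem linear_bound {k : Type v} [Field k] [Finite k] (hL : LayerBound.{u}) (n : ℕ) :
    ∀ (A V : Type u) [Group A] [Finite A] [AddCommGroup V] [Finite V] [DistribMulAction A V] [Module k V],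
    Nat.card A + Nat.card V ≤ n → Group.IsSolvable A → (∀ a : A, (∀ v : V, a • v = v) → a = 1) →
    (Nat.card A).Coprime (Nat.card V) → KScal k A V → ∀ r, Nat.card V = Nat.card k ^ r →
    ∃ (N : Subgroup A) (_ : N.Normal), Group.IsNilpotent N ∧
      (∃ v : V, ∀ x ∈ N, ∀ y ∈ N, x • v = v → y • v = v → x * y = y * x) ∧ KB (A ⧸ N) (3 ^ (r - 1)) := by
  classical
  induction n using Nat.strong_induction_on with
  | _ n ih =>
  intro A V _ _ _ _ _ _ hn hsol hf hcop hk r hr
  have hq : 1 < Nat.card k := Finite.one_lt_card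
  rcases subsingleton_or_nontrivial V with hV | hV
  · have : Subsingleton A := ⟨fun a b => (hf a fun v => Subsingleton.elim _ _).trans
      (hf b fun v => Subsingleton.elim _ _).symm⟩
    refine ⟨⊥, inferInstance, inferInstance, ⟨0, fun x _ y _ _ _ => Subsingleton.elim _ _⟩,
      KB.of_card_le ?_⟩
    exact (Finite.card_le_one_iff_subsingleton.2 inferInstance).trans (Nat.one_le_pow _ _ (by norm_num))
  -- the characteristic
  obtain ⟨p, hp⟩ := CharP.exists k
  have := Fintype.ofFinite k
  have hpp : p.Prime := CharP.char_is_prime k p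
  have := Fact.mk hpp
  have hexp : ∀ v : V, p • v = 0 := fun v => by
    rw [← Nat.cast_smul_eq_nsmul k p v, CharP.cast_eq_zero, zero_smul]
  have hr1 : 1 ≤ r := by
    by_contra h
    rw [Nat.lt_one_iff.1 (not_le.1 h), pow_zero] at hr
    exact absurd hr (Finite.one_lt_card (α := V)).ne'
  by_cases hirr : Irr A V
  swap
  · -- the reducible case
    simp only [Irr, not_forall, not_or] at hirr
    obtain ⟨W1, hW1, hne, hne'⟩ := hirr
    let ρ : A →* MulAut (Multiplicative V) :=
      { toFun := fun a => AddEquiv.toMultiplicative (DistribMulAction.toAddEquiv V a)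
        map_one' := MulEquiv.ext fun x => congrArg Multiplicative.ofAdd (one_smul A x.toAdd)
        map_mul' := fun a b => MulEquiv.ext fun x => congrArg Multiplicative.ofAdd (mul_smul a b x.toAdd) }
    have hAp : (Nat.card A).Coprime p := by
      refine Nat.Coprime.coprime_dvd_right ?_ hcop
      obtain ⟨m, -, hm⟩ := FiniteField.card k p
      rw [hr, Nat.card_eq_fintype_card (α := k), hm, ← pow_mul]
      exact dvd_pow_self p (Nat.mul_ne_zero m.pos.ne' (by omega))
    obtain ⟨U, -, hU1, hU2, hU3⟩ := CfsgLib.Coprime.exists_invariant_compl hpp ρ hAp (T := ⊤)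
      (W := AddSubgroup.toSubgroup W1)
      (fun t _ => congrArg Multiplicative.ofAdd (hexp t.toAdd)) le_top (fun _ _ _ => trivial)
      (fun a w hw => hW1 a trivial _ hw)
    let W2 : AddSubgroup V := Subgroup.toAddSubgroup' U
    have hW2 : Inv (⊤ : Subgroup A) W2 := fun a _ x hx => hU3 a (Multiplicative.ofAdd x) hx
    have hint : ∀ x : V, x ∈ W1 → x ∈ W2 → x = 0 := fun x h1 h2 =>
      congrArg Multiplicative.toAdd (Subgroup.mem_bot.1 (hU1 ▸ ⟨h2, h1⟩ :
        Multiplicative.ofAdd x ∈ (⊥ : Subgroup (Multiplicative V))))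
    have hdec : ∀ v : V, ∃ (w1 : W1) (w2 : W2), (w1 : V) + w2 = v := fun v => by
      obtain ⟨a, ha, b, hb, hab⟩ := Subgroup.mem_sup.1
        (hU2.symm ▸ Subgroup.mem_top _ : Multiplicative.ofAdd v ∈ AddSubgroup.toSubgroup W1 ⊔ U)
      exact ⟨⟨a.toAdd, ha⟩, ⟨b.toAdd, hb⟩, congrArg Multiplicative.toAdd hab⟩
    have huniq : ∀ (w1 w1' : W1) (w2 w2' : W2), (w1 : V) + w2 = w1' + w2' → w1 = w1' ∧ w2 = w2' := by
      intro w1 w1' w2 w2' h
      have h0 : (w1 : V) - w1' = w2' - w2 := by
        rw [sub_eq_sub_iff_add_eq_add, h, add_comm]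
      have h1 : (w1 : V) - w1' = 0 := hint _ (sub_mem w1.2 w1'.2) (h0 ▸ sub_mem w2'.2 w2.2)
      have e1 : (w1 : V) = w1' := sub_eq_zero.1 h1
      refine ⟨Subtype.ext e1, Subtype.ext ?_⟩
      rw [e1] at h
      exact add_left_cancel h
    obtain ⟨B1, _, _, _, _, φ1, hφ1, hsol1, hd1, hact1, hf1, hk1⟩ := exists_restrict hsol hk hW1
    obtain ⟨B2, _, _, _, _, φ2, hφ2, hsol2, hd2, hact2, hf2, hk2⟩ := exists_restrict hsol hk hW2
    have hcard : Nat.card W1 * Nat.card W2 = Nat.card V := by
      rw [← Nat.card_prod]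
      refine Nat.card_eq_of_bijective (fun w => (w.1 : V) + w.2) ⟨fun x y h => ?_, fun v => ?_⟩
      · obtain ⟨h1, h2⟩ := huniq _ _ _ _ h
        exact Prod.ext h1 h2
      · obtain ⟨w1, w2, h⟩ := hdec v
        exact ⟨(w1, w2), h⟩
    have n1 : 1 < Nat.card W1 := by
      refine Finite.one_lt_card_iff_nontrivial.2 ((AddSubgroup.nontrivial_iff_ne_bot W1).2 hne)
    have n2 : 1 < Nat.card W2 := by
      refine Finite.one_lt_card_iff_nontrivial.2 ((AddSubgroup.nontrivial_iff_ne_bot W2).2 fun e => ?_)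
      refine hne' ((AddSubgroup.eq_top_iff' W1).2 fun v => ?_)
      obtain ⟨w1, w2, h⟩ := hdec v
      have : (w2 : V) = 0 := AddSubgroup.mem_bot.1 (SetLike.le_def.1 e.le w2.2)
      rw [← h, this, add_zero]
      exact w1.2
    have hlt1 : Nat.card B1 + Nat.card W1 < n := by
      have := Nat.le_of_dvd Nat.card_pos hd1
      have : Nat.card W1 < Nat.card V := by
        rw [← hcard]; exact lt_mul_of_one_lt_right (by omega) n2
      omega
    have hlt2 : Nat.card B2 + Nat.card W2 < n := by
      have := Nat.le_of_dvd Nat.card_pos hd2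
      have : Nat.card W2 < Nat.card V := by
        rw [← hcard]; exact lt_mul_of_one_lt_left (by omega) n1
      omega
    set r1 := Module.finrank k W1 with hr1d
    set r2 := Module.finrank k W2 with hr2d
    have e1 : Nat.card W1 = Nat.card k ^ r1 := Module.natCard_eq_pow_finrank
    have e2 : Nat.card W2 = Nat.card k ^ r2 := Module.natCard_eq_pow_finrank
    have hr12 : r1 + r2 = r := Nat.pow_right_injective hq (by
      show Nat.card k ^ (r1 + r2) = Nat.card k ^ r
      rw [pow_add, ← e1, ← e2, hcard, hr])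
    have hr1' : 1 ≤ r1 := by
      by_contra h; rw [Nat.lt_one_iff.1 (not_le.1 h), pow_zero] at e1; omega
    have hr2' : 1 ≤ r2 := by
      by_contra h; rw [Nat.lt_one_iff.1 (not_le.1 h), pow_zero] at e2; omega
    obtain ⟨N1, _, hN1, ⟨v1, hv1⟩, hb1⟩ := ih _ hlt1 B1 W1 le_rfl hsol1 hf1
      ((hcop.coprime_dvd_left hd1).coprime_dvd_right (hcard ▸ dvd_mul_right _ _)) hk1 r1 e1
    obtain ⟨N2, _, hN2, ⟨v2, hv2⟩, hb2⟩ := ih _ hlt2 B2 W2 le_rfl hsol2 hf2
      ((hcop.coprime_dvd_left hd2).coprime_dvd_right (hcard ▸ dvd_mul_left _ _)) hk2 r2 e2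
    let N : Subgroup A := N1.comap φ1 ⊓ N2.comap φ2
    have hNn : N.Normal := inferInstance
    have hj : ∀ a : A, φ1 a = 1 → φ2 a = 1 → a = 1 := fun a h1 h2 => hf a fun v => by
      obtain ⟨w1, w2, rfl⟩ := hdec v
      rw [smul_add, ← hact1, ← hact2, h1, h2, one_smul, one_smul]
    refine ⟨N, hNn, ?_, ⟨(v1 : V) + v2, fun x hx y hy hxv hyv => ?_⟩, ?_⟩
    · let g : N →* N1 × N2 := ((φ1.comp N.subtype).codRestrict N1 fun x => x.2.1).prod
        ((φ2.comp N.subtype).codRestrict N2 fun x => x.2.2)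
      have := hN1; have := hN2
      refine isNilpotent_of_inj g ((injective_iff_map_eq_one g).2 fun x hx => ?_)
      exact Subtype.ext (hj _ (congrArg (fun z => (z.1 : B1)) hx) (congrArg (fun z => (z.2 : B2)) hx))
    · have key : ∀ z : A, z • ((v1 : V) + v2) = (v1 : V) + v2 → φ1 z • v1 = v1 ∧ φ2 z • v2 = v2 := by
        intro z hz
        rw [smul_add, ← hact1, ← hact2] at hz
        exact huniq _ _ _ _ hz
      have h := hj ((x * y) * (y * x)⁻¹) ?_ ?_
      · exact mul_inv_eq_one.1 h
      · rw [map_mul, map_inv, map_mul, map_mul,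
          hv1 _ hx.1 _ hy.1 (key x hxv).1 (key y hyv).1, mul_inv_cancel]
      · rw [map_mul, map_inv, map_mul, map_mul,
          hv2 _ hx.2 _ hy.2 (key x hxv).2 (key y hyv).2, mul_inv_cancel]
    · let g : A →* (B1 ⧸ N1) × (B2 ⧸ N2) :=
        ((QuotientGroup.mk' N1).comp φ1).prod ((QuotientGroup.mk' N2).comp φ2)
      refine ((hb1.prod hb2).mono (pow_three_sub hr1' hr2' hr12)).transfer (QuotientGroup.mk' N)
        (QuotientGroup.mk'_surjective N) g fun a ha => ?_
      rw [QuotientGroup.ker_mk']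
      have ha' : g a = 1 := MonoidHom.mem_ker.1 ha
      have h1 : (((φ1 a : B1) : B1 ⧸ N1)) = 1 := congrArg Prod.fst ha'
      have h2 : (((φ2 a : B2) : B2 ⧸ N2)) = 1 := congrArg Prod.snd ha'
      exact ⟨(QuotientGroup.eq_one_iff (φ1 a)).1 h1, (QuotientGroup.eq_one_iff (φ2 a)).1 h2⟩
  -- irreducible
  obtain ⟨U, hUn, hUc, hmax⟩ := exists_max_abelian (A := A)
  by_cases hfield : ∀ s ∈ scalars V U, s ≠ 0 → ∃ s' ∈ scalars V U, s * s' = 1
  · -- the field case
    have F : FieldCase A V U := ⟨exists_ne 0, hUn, hUc, hfield, hf⟩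
    have hZU : Subgroup.center A ≤ U := by
      have h1 : (U ⊔ Subgroup.center A) = U := hmax _ inferInstance le_sup_left fun x hx y hy => by
        obtain ⟨a, ha, b, hb, rfl⟩ := Subgroup.mem_sup_of_normal_right.1 hx
        obtain ⟨c, hc, d, hd, rfl⟩ := Subgroup.mem_sup_of_normal_right.1 hy
        have h1 : Commute a c := hUc a ha c hc
        have hb' : ∀ z, Commute b z := fun z => (Subgroup.mem_center_iff.1 hb z).symm
        have hd' : ∀ z, Commute d z := fun z => (Subgroup.mem_center_iff.1 hd z).symm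
        exact ((h1.mul_right (hd' a).symm).mul_left (hb' (c * d))).eq
      exact h1 ▸ le_sup_right
    have hkU : ∀ c : k, ∃ f ∈ scalars V U, ∀ v : V, f v = c • v := fun c => by
      obtain ⟨f, hfm, hfv⟩ := hk c
      exact ⟨f, Subring.closure_mono (Set.image_mono hZU) hfm, hfv⟩
    obtain ⟨a, d, e, E, ha, hd, hV', he, hed, -, hidx, -, hEn, -, hEC, hcomm, -, W, _, _, μ, _, _, _, β, act,
      hβ, hW, hiso, hpres, hnoiso, hker, -⟩ := exists_fieldLayer hsol F hmax hexp hkU hk.comm
    obtain rfl : a * d = r := Nat.pow_right_injective hq (hV'.symm.trans hr)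
    set C := Subgroup.centralizer (U : Set A) with hC
    have hCn : C.Normal := inferInstance
    obtain ⟨v, hv⟩ := F.nt
    refine ⟨E, hEn, ?_, ⟨v, fun x hx y hy hxv hyv => Scalar.commute_of_fix F (hcomm x hx y hy) hv hxv hyv⟩, ?_⟩
    · haveI : Group.IsNilpotent (E ⧸ U.subgroupOf E) := by
        letI : CommGroup (E ⧸ U.subgroupOf E) :=
          { (inferInstance : Group (E ⧸ U.subgroupOf E)) with
            mul_comm := fun x y => by
              obtain ⟨x, rfl⟩ := QuotientGroup.mk_surjective x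
              obtain ⟨y, rfl⟩ := QuotientGroup.mk_surjective y
              have h : ((x * y * x⁻¹ * y⁻¹ : E) : E ⧸ U.subgroupOf E) = 1 :=
                (QuotientGroup.eq_one_iff _).2 (hcomm x x.2 y y.2)
              rwa [QuotientGroup.mk_mul, QuotientGroup.mk_mul, QuotientGroup.mk_mul, QuotientGroup.mk_inv,
                QuotientGroup.mk_inv, mul_inv_eq_one, mul_inv_eq_iff_eq_mul] at h }
        exact CommGroup.isNilpotent
      refine Subgroup.isNilpotent_of_ker_le_center (QuotientGroup.mk' (U.subgroupOf E)) ?_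
      rw [QuotientGroup.ker_mk']
      intro u hu
      exact Subgroup.mem_center_iff.2 fun y => Subtype.ext
        (Subgroup.mem_centralizer_iff.1 (hEC y.2) _ hu).symm
    · have hlayer := hL A W μ β hβ hsol act C hiso hpres hnoiso e hW
      let π : A →* A ⧸ C := QuotientGroup.mk' C
      have hπC : ∀ x : π.ker, (x : A) ∈ C := fun x => (QuotientGroup.eq_one_iff _).1 (MonoidHom.mem_ker.1 x.2)
      let g : π.ker →* C.map act := (act.comp π.ker.subtype).codRestrict (C.map act) fun x => ⟨x, hπC x, rfl⟩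
      refine (KB.of_layers E π (by rw [QuotientGroup.ker_mk']; exact hEC) g (fun x hx => ?_) hlayer
        (KB.of_card_le (m := a) hidx)).mono ?_
      · exact (hker x (hπC x)).1 (congrArg Subtype.val hx)
      · have h1 : a ≤ 3 ^ (a - 1) := by
          have := Nat.lt_pow_self (show 1 < 3 by norm_num) (n := a - 1)
          omega
        refine (Nat.mul_le_mul_left _ h1).trans ?_
        rw [← pow_add]
        refine Nat.pow_le_pow_right (by norm_num) ?_
        obtain ⟨a, rfl⟩ := Nat.exists_eq_add_of_le ha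
        have : a ≤ a * d := Nat.le_mul_of_pos_right a (by omega)
        rw [add_mul, one_mul]
        omega
  · -- the imprimitive case
    obtain ⟨H, _, _, W, _, _, _, _, t, π, ψ, ht, hHsol, hHf, -, hHlt, hHd, hHk, hW, -, hψ, h3, -, hconj,
      hvec⟩ := exists_blocks hsol hf hirr hk hUn hUc hfield
    set m := Module.finrank k W with hmd
    have em : Nat.card W = Nat.card k ^ m := Module.natCard_eq_pow_finrank
    have hmt : m * t = r := Nat.pow_right_injective hq (by
      show Nat.card k ^ (m * t) = Nat.card k ^ r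
      rw [pow_mul, ← em, hW, hr])
    have hm1 : 1 ≤ m := by
      by_contra h
      rw [Nat.lt_one_iff.1 (not_le.1 h), zero_mul] at hmt
      omega
    have hWd : Nat.card W ∣ Nat.card V := hW ▸ dvd_pow_self _ (by omega)
    have hlt : Nat.card H + Nat.card W < n := by
      have := Nat.le_of_dvd Nat.card_pos hWd
      omega
    obtain ⟨NH, _, hNH, ⟨w, hw⟩, hb⟩ := ih _ hlt H W le_rfl hHsol hHf
      ((hcop.coprime_dvd_left hHd).coprime_dvd_right hWd) hHk m em
    let N : Subgroup A := ((Subgroup.pi Set.univ fun _ : Fin t => NH).comap ψ).map π.ker.subtype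
    have hmem : ∀ {x : A}, x ∈ N ↔ ∃ h : x ∈ π.ker, ∀ i, ψ ⟨x, h⟩ i ∈ NH := by
      intro x
      constructor
      · rintro ⟨b, hb, rfl⟩
        exact ⟨b.2, fun i => hb i trivial⟩
      · rintro ⟨h, hi⟩
        exact ⟨⟨x, h⟩, fun i _ => hi i, rfl⟩
    have hNn : N.Normal := ⟨fun x hx a => by
      obtain ⟨h, hi⟩ := hmem.1 hx
      refine hmem.2 ⟨(MonoidHom.normal_ker π).conj_mem x h a, fun j => ?_⟩
      obtain ⟨i, rfl⟩ := (π a).surjective j
      obtain ⟨s, hs⟩ := hconj a ⟨x, h⟩ i
      rw [hs]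
      exact ‹NH.Normal›.conj_mem _ (hi i) s⟩
    have hNk : N ≤ π.ker := fun x hx => (hmem.1 hx).1
    refine ⟨N, hNn, ?_, ?_, ?_⟩
    · let g : N →* (Fin t → NH) :=
        MonoidHom.mk' (fun x i => ⟨ψ ⟨x, hNk x.2⟩ i, (hmem.1 x.2).2 i⟩) fun x y => funext fun i =>
          Subtype.ext (congrFun (map_mul ψ ⟨x, hNk x.2⟩ ⟨y, hNk y.2⟩) i)
      have := hNH
      refine isNilpotent_of_inj g fun x y hxy => ?_
      have h1 : ψ ⟨x, hNk x.2⟩ = ψ ⟨y, hNk y.2⟩ := funext fun i => congrArg Subtype.val (congrFun hxy i)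
      exact Subtype.ext (congrArg (fun z : π.ker => (z : A)) (hψ h1) :)
    · obtain ⟨v, hv⟩ := hvec w
      refine ⟨v, fun x hx y hy hxv hyv => ?_⟩
      obtain ⟨hx', hxi⟩ := hmem.1 hx
      obtain ⟨hy', hyi⟩ := hmem.1 hy
      have h1 : ψ (⟨x, hx'⟩ * ⟨y, hy'⟩) = ψ (⟨y, hy'⟩ * ⟨x, hx'⟩) := funext fun i => by
        rw [map_mul, map_mul, Pi.mul_apply, Pi.mul_apply]
        exact hw _ (hxi i) _ (hyi i) (hv ⟨x, hx'⟩ hxv i) (hv ⟨y, hy'⟩ hyv i)
      exact congrArg Subtype.val (hψ h1)
    · let g : π.rangeRestrict.ker →* (Fin t → H ⧸ NH) :=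
        MonoidHom.mk' (fun x i => (ψ ⟨x, by simpa using x.2⟩ i : H ⧸ NH)) fun x y => funext fun i => by
          show ((ψ (⟨x, by simpa using x.2⟩ * ⟨y, by simpa using y.2⟩) i : H) : H ⧸ NH) = _
          rw [map_mul]; rfl
      refine (KB.of_layers N π.rangeRestrict (by rw [MonoidHom.ker_rangeRestrict]; exact hNk) g
        (fun x hx => hmem.2 ⟨by simpa using x.2, fun i => (QuotientGroup.eq_one_iff _).1 (congrFun hx i)⟩)
        (hb.pi t) (KB.of_card_le (m := 3 ^ (t - 1)) ?_)).mono ?_
      · have e : 3 ^ t = 3 ^ (t - 1) * 3 := by rw [← pow_succ]; congr 1; omega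
        omega
      · rw [← pow_mul, ← pow_add, Nat.sub_mul, one_mul]
        have : t ≤ m * t := Nat.le_mul_of_pos_left t hm1
        exact Nat.pow_le_pow_right (by norm_num) (by omega)

/-- **The coprime semidirect bound.** -/
theorem semidirectBound (hL : LayerBound.{u}) (p : ℕ) [hp : Fact p.Prime] : SemidirectBound.{u} p := by
  intro X _ _ V _ hsol hexp hcomm hidx hself n hn
  classical
  obtain ⟨A, hA⟩ := Subgroup.exists_right_complement'_of_coprime (N := V)
    (hn ▸ ((hp.out.coprime_iff_not_dvd.2 hidx).pow_left n))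
  letI : CommGroup V := { V.toGroup with mul_comm := fun a b => Subtype.ext (hcomm a a.2 b b.2) }
  let ρ : A →* MulAut V := (MulAut.conjNormal (H := V)).comp A.subtype
  letI : DistribMulAction A (Additive V) :=
    { smul := fun a v => Additive.ofMul (ρ a v.toMul)
      one_smul := fun v => by show Additive.ofMul (ρ 1 v.toMul) = v; rw [map_one]; rfl
      mul_smul := fun a b v => by
        show Additive.ofMul (ρ (a * b) v.toMul) = Additive.ofMul (ρ a (ρ b v.toMul))
        rw [map_mul]; rfl
      smul_zero := fun a => by show Additive.ofMul (ρ a 1) = 0; rw [map_one]; rfl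
      smul_add := fun a v w => by
        show Additive.ofMul (ρ a (v.toMul * w.toMul)) = _
        rw [map_mul]; rfl }
  letI : Module (ZMod p) (Additive V) := AddCommGroup.zmodModule fun v =>
    congrArg Additive.ofMul (Subtype.ext (hexp _ v.toMul.2) : v.toMul ^ p = 1)
  have hf : ∀ a : A, (∀ v : Additive V, a • v = v) → a = 1 := by
    intro a ha
    have haV : (a : X) ∈ V := by
      rw [← hself]
      refine Subgroup.mem_centralizer_iff.2 fun x hx => ?_
      have := congrArg (fun z : Additive V => ((z.toMul : V) : X)) (ha (Additive.ofMul ⟨x, hx⟩))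
      change (a : X) * x * (a : X)⁻¹ = x at this
      exact (mul_inv_eq_iff_eq_mul.1 this).symm
    exact Subtype.ext (Subgroup.disjoint_def.1 hA.disjoint haV a.2)
  have hAV : Nat.card A = V.index := hA.symm.index_eq_card.symm
  have hVc : Nat.card (Additive V) = Nat.card (ZMod p) ^ n := by
    rw [Nat.card_zmod, ← hn]; exact Nat.card_congr Additive.toMul
  have hsolA : Group.IsSolvable A := inferInstance
  obtain ⟨N, _, -, ⟨v, hv⟩, hb⟩ := linear_bound hL _ A (Additive V) le_rfl hsolA hf
    (by rw [hVc, Nat.card_zmod, hAV]; exact (hp.out.coprime_iff_not_dvd.2 hidx).symm.pow_right n)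
    KScal.prime n hVc
  -- the projection onto the complement
  let θ : A →* X ⧸ V := (QuotientGroup.mk' V).comp A.subtype
  have hθ : Function.Bijective θ := by
    rw [Nat.bijective_iff_injective_and_card, injective_iff_map_eq_one]
    refine ⟨fun a ha => Subtype.ext (Subgroup.disjoint_def.1 hA.disjoint
      ((QuotientGroup.eq_one_iff _).1 ha) a.2), hAV⟩
  let e := MulEquiv.ofBijective θ hθ
  let f : X →* A := e.symm.toMonoidHom.comp (QuotientGroup.mk' V)
  have hfA : ∀ a : A, f a = a := fun a => e.symm_apply_apply a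
  have hfV : ∀ x ∈ V, f x = 1 := fun x hx => by
    show e.symm (x : X ⧸ V) = 1
    rw [(QuotientGroup.eq_one_iff x).2 hx, map_one]
  let g : X →* A ⧸ N := (QuotientGroup.mk' N).comp f
  have hgs : Function.Surjective g := fun y => by
    obtain ⟨a, rfl⟩ := QuotientGroup.mk_surjective y
    exact ⟨a, by show ((f a : A) : A ⧸ N) = _; rw [hfA]⟩
  refine (classes_le_ker_mul g hgs).trans ?_
  rw [mul_comm (3 ^ (n - 1))]
  refine Nat.mul_le_mul ?_ hb.self
  -- the layer over `N`
  set vX : X := ((v.toMul : V) : X) with hvX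
  have hVK : V ≤ g.ker := fun x hx => by
    show ((f x : A) : A ⧸ N) = 1
    rw [hfV x hx]; rfl
  let C : Subgroup X := N.map A.subtype ⊓ Subgroup.centralizer {vX}
  have hfix : ∀ a : A, Commute (a : X) vX → a • v = v := fun a h => by
    refine congrArg Additive.ofMul (Subtype.ext ?_ : ρ a v.toMul = v.toMul)
    show (a : X) * vX * (a : X)⁻¹ = vX
    rw [h.eq, mul_inv_cancel_right]
  have hCc : ∀ x ∈ C, ∀ y ∈ C, x * y = y * x := by
    rintro _ ⟨⟨a, ha, rfl⟩, hac⟩ _ ⟨⟨b, hb, rfl⟩, hbc⟩
    exact congrArg A.subtype (hv a ha b hb (hfix a (Subgroup.mem_centralizer_singleton_iff.1 hac))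
      (hfix b (Subgroup.mem_centralizer_singleton_iff.1 hbc)))
  letI : CommGroup C := { C.toGroup with mul_comm := fun a b => Subtype.ext (hCc a a.2 b b.2) }
  have := Fintype.ofFinite C
  have hCK : ∀ c : C, (c : X) ∈ g.ker := fun c => by
    obtain ⟨a, ha, hac⟩ := c.2.1
    show ((f (c : X) : A) : A ⧸ N) = 1
    rw [← hac, show f (A.subtype a) = a from hfA a]
    exact (QuotientGroup.eq_one_iff a).2 ha
  have hVcard : Nat.card (V.subgroupOf g.ker) = p ^ n :=
    (Nat.card_congr (Subgroup.subgroupOfEquivOfLe hVK).toEquiv).trans hn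
  rw [← hVcard]
  refine CfsgLib.BlockB.AbelianKGV.card_conjClasses_le (p := p) (V.subgroupOf g.ker)
    (fun x hx => Subtype.ext (by simpa using hexp _ (Subgroup.mem_subgroupOf.1 hx))) ?_ ?_
    (v := ⟨vX, hVK (v.toMul).2⟩) (v.toMul).2
    (C := C) (C.subtype.codRestrict g.ker hCK) (fun a b h => Subtype.ext (congrArg Subtype.val h :)) ?_ ?_ ?_ ?_
  · exact fun h => hidx (h.trans (Subgroup.relIndex_dvd_index_of_normal V g.ker))
  · ext x
    rw [Subgroup.mem_subgroupOf, ← SetLike.ext_iff.1 hself, Subgroup.mem_centralizer_iff,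
      Subgroup.mem_centralizer_iff]
    exact ⟨fun h y hy => congrArg Subtype.val (h ⟨y, hVK hy⟩ hy),
      fun h y hy => Subtype.ext (h _ hy)⟩
  · intro h
    have h1 : Nat.card C ∣ Nat.card A := Subgroup.card_dvd_of_le (inf_le_left.trans (Subgroup.map_subtype_le N))
    exact hidx (hAV ▸ h.trans h1)
  · intro c hc
    obtain ⟨a, -, hac⟩ := c.2.1
    exact Subtype.ext (Subgroup.disjoint_def.1 hA.disjoint hc (hac ▸ a.2))
  · intro c
    exact Subtype.ext (Subgroup.mem_centralizer_singleton_iff.1 c.2.2)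
  · intro x hx
    have hx' : Commute (x : X) vX := congrArg Subtype.val hx.eq
    set a : A := f (x : X) with haf
    have haN : a ∈ N := (QuotientGroup.eq_one_iff _).1 (MonoidHom.mem_ker.1 x.2)
    have hw : (x : X) * (a : X)⁻¹ ∈ V := by
      rw [← QuotientGroup.eq_one_iff (N := V), QuotientGroup.mk_mul, QuotientGroup.mk_inv, mul_inv_eq_one]
      exact (e.apply_symm_apply _).symm
    have hav : Commute (a : X) vX := by
      have h2 : Commute ((x : X) * (a : X)⁻¹) vX := hcomm _ hw _ (v.toMul).2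
      have := h2.inv_left.mul_left hx'
      rwa [mul_inv_rev, inv_inv, mul_assoc, inv_mul_cancel, mul_one] at this
    let c : C := ⟨(a : X), ⟨a, haN, rfl⟩, Subgroup.mem_centralizer_singleton_iff.2 hav.eq⟩
    refine ⟨x * (⟨(a : X), hCK c⟩ : g.ker)⁻¹, hw, c, Subtype.ext ?_⟩
    show (x : X) = (x : X) * (a : X)⁻¹ * (a : X)
    rw [inv_mul_cancel_right]

/-- **The bound modulo the Fitting subgroup.** -/
theorem fittingBound (hL : LayerBound.{u}) : FittingBound.{u} := by
  intro A _ _ V _ _ _ K _ _ _ _ _ hsol hf hcop r hr H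
  classical
  letI : DistribMulAction (A × Kˣ) V :=
    { smul := fun x v => (x.2 : K) • (x.1 • v)
      one_smul := fun v => by show ((1 : Kˣ) : K) • ((1 : A) • v) = v; simp
      mul_smul := fun x y v => by
        show ((x.2 * y.2 : Kˣ) : K) • ((x.1 * y.1) • v) = (x.2 : K) • (x.1 • ((y.2 : K) • (y.1 • v)))
        rw [Units.val_mul, mul_smul (x.2 : K), mul_smul x.1, smul_comm x.1 (y.2 : K)]
      smul_zero := fun x => by show (x.2 : K) • (x.1 • (0 : V)) = 0; simp
      smul_add := fun x v w => by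
        show (x.2 : K) • (x.1 • (v + w)) = (x.2 : K) • (x.1 • v) + (x.2 : K) • (x.1 • w)
        rw [smul_add, smul_add] }
  haveI : Finite (AddMonoid.End V) :=
    Finite.of_injective (fun f => (f : V → V)) DFunLike.coe_injective
  let ψ : A × Kˣ →* (AddMonoid.End V)ˣ := (DistribMulAction.toAddMonoidEnd (A × Kˣ) V).toHomUnits
  have hψ : ∀ (x : A × Kˣ) (v : V), (⟨ψ x, x, rfl⟩ : ψ.range) • v = (x.2 : K) • (x.1 • v) := fun x v => rfl
  have : Group.IsSolvable (A × Kˣ) := inferInstance
  have hk : KScal K ψ.range V := fun c => by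
    by_cases hc : c = 0
    · exact ⟨0, zero_mem _, fun v => by rw [hc, zero_smul]; rfl⟩
    · let z : ψ.range := ⟨ψ (1, Units.mk0 c hc), _, rfl⟩
      have hz : z ∈ Subgroup.center ψ.range := Subgroup.mem_center_iff.2 fun y => by
        obtain ⟨_, x, rfl⟩ := y
        refine Subtype.ext ?_
        show ψ x * ψ _ = ψ _ * ψ x
        rw [← map_mul, ← map_mul]
        exact congrArg ψ (Prod.ext (by simp) (mul_comm _ _))
      refine ⟨endo ψ.range V z, endo_mem_scalars hz, fun v => ?_⟩
      show z • v = c • v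
      rw [hψ, one_smul, Units.val_mk0]
  have hfR : ∀ b : ψ.range, (∀ v : V, b • v = v) → b = 1 := by
    rintro ⟨_, s, rfl⟩ h
    exact Subtype.ext (Units.ext (DFunLike.ext _ _ fun v => h v))
  have := Fintype.ofFinite K
  have hV : Nat.card V = Nat.card K ^ r := hr ▸ Module.natCard_eq_pow_finrank
  have hcopR : (Nat.card ψ.range).Coprime (Nat.card V) := by
    refine Nat.Coprime.coprime_dvd_left (Subgroup.card_range_dvd ψ) ?_
    rw [Nat.card_prod, hV]
    refine (Nat.Coprime.mul_left hcop ?_).pow_right r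
    rw [Nat.card_units]
    exact (Nat.coprime_self_sub_left (Nat.card_pos (α := K))).2 (Nat.coprime_one_left _)
  obtain ⟨N, _, hN, -, hb⟩ := linear_bound hL _ ψ.range V le_rfl
    (Group.isSolvable_of_surjective ψ.rangeRestrict_surjective) hfR hcopR hk r hV
  let j : A →* ψ.range := ψ.rangeRestrict.comp (MonoidHom.inl A Kˣ)
  have hj : Function.Injective j := (injective_iff_map_eq_one j).2 fun a ha => hf a fun v => by
    have := congrArg (fun b : ψ.range => b • v) ha
    simp only [one_smul] at this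
    rw [show j a = ⟨ψ (a, 1), _, rfl⟩ from rfl, hψ, Units.val_one, one_smul] at this
    exact this
  set N' := N.comap j with hN'
  have hN'F : N' ≤ Cfsg.fittingSubgroup A := by
    refine CfsgLib.Solvable.le_fittingSubgroup inferInstance ?_
    let g : N' →* N := (j.comp N'.subtype).codRestrict N fun x => x.2
    have := hN
    exact isNilpotent_of_inj g fun x y e => Subtype.ext (hj (congrArg Subtype.val e :))
  exact (hb.transfer (QuotientGroup.mk' ((Cfsg.fittingSubgroup A).subgroupOf H))
    (QuotientGroup.mk'_surjective _) ((QuotientGroup.mk' N).comp (j.comp H.subtype)) fun x hx => by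
      rw [QuotientGroup.ker_mk']
      have hx' : ((j (x : A) : ψ.range) : ψ.range ⧸ N) = 1 := MonoidHom.mem_ker.1 hx
      exact hN'F ((QuotientGroup.eq_one_iff (j (x : A))).1 hx' :)).self

end CfsgLib.ClassLin
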